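/-
The even sets of points modulo the code as an elementary abelian group with the pairs as the second class: a triangle
of pairs and the sets of four above it.
-/
import Cfsg.Agent.Lib.Fus.LargeFischerPoints
import Cfsg.Agent.Lib.Spor.Golay.M24Facts

set_option autoImplicit false
set_option maxRecDepth 100000
set_option linter.style.haveILetI false
set_option linter.unusedSimpArgs false

open Cfsg Cfsg.Agent.Spor.Golay Cfsg.Agent.Fus.LargeFischerPoints
open scoped Pointwise symmDiff commutatorElement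

namespace Cfsg.Agent.Fus.U62Four

/-- A permutation in `M₂₄` with given values at up to five points. -/
theorem exists_map {n : ℕ} (hn : n ≤ 5) {x y : Fin n → GolayPt} (hx : Function.Injective x)
    (hy : Function.Injective y) : ∃ σ ∈ M24, ∀ i, σ (x i) = y i := by
  haveI := M24_pretransitive hn
  obtain ⟨g, hg⟩ := MulAction.exists_smul_eq M24 (⟨x, hx⟩ : Fin n ↪ GolayPt) ⟨y, hy⟩
  exact ⟨g.1, g.2, fun i => congrArg (fun e : Fin n ↪ GolayPt => e i) hg⟩

theorem inj_of_nodup {n : ℕ} {x : Fin n → GolayPt} (h : (List.ofFn x).Nodup) : Function.Injective x :=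
  List.nodup_ofFn.1 h

variable {G : Type*} [Group G]

/-- Neither one nor in the class of the central involution. -/
def Nc (z g : G) : Prop := g ≠ 1 ∧ ¬ IsConj z g

/-- The data. -/
structure Pic (z : G) (A : Subgroup G) (val : Finset GolayPt → G) : Prop where
  pts : Pts A val
  comm : ∀ a ∈ A, ∀ b ∈ A, a * b = b * a
  pairs : ∀ a, a ∈ pairSet val ↔ a ∈ A ∧ Nc z a
  lift : ∀ σ ∈ M24, ∃ n ∈ Subgroup.normalizer (A : Set G), ∀ s : Finset GolayPt, Even s.card →
    n * val s * n⁻¹ = val (σ • s)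
  zA : z ∈ A
  ne : z ≠ 1

variable {z : G} {A : Subgroup G} {val : Finset GolayPt → G}

theorem Pic.empty (h : Pic z A val) : val ∅ = 1 := by
  have := h.pts.mul ∅ ∅
  rw [symmDiff_self] at this
  exact left_eq_mul.1 this

theorem Pic.code (h : Pic z A val) {s : Finset GolayPt}
    (hs : s ∈ supports (golayCode : Set (GolayPt → ZMod 2))) : val s = 1 :=
  supports_induction (P := fun s => val s = 1) h.empty (fun s t (hs : val s = 1) (ht : val t = 1) => by
    show val (symmDiff s t) = 1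
    rw [h.pts.mul, hs, ht, one_mul]) h.pts.code hs

theorem Pic.not_one (h : Pic z A val) : ¬ IsConj z (1 : G) := fun e => by
  obtain ⟨c, hc⟩ := _root_.isConj_iff.1 e
  exact h.ne (conj_eq_one_iff.1 hc)

theorem Pic.nc_pair (h : Pic z A val) {x y : GolayPt} (hxy : x ≠ y) : Nc z (val {x, y}) :=
  ((h.pairs _).1 ⟨_, Finset.card_pair hxy, rfl⟩).2

theorem Pic.inv_eq (h : Pic z A val) {a : G} (ha : a ∈ A) : a⁻¹ = a :=
  inv_eq_of_mul_eq_one_right (h.pts.sq a ha)

theorem Pic.quad (h : Pic z A val) {a b : GolayPt} (hab : a ≠ b) {u : G} (hu : u ∈ A) (hzu : IsConj z u)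
    (hn : Nc z (val {a, b} * u)) : ∃ x y, [a, b, x, y].Nodup ∧ u = val {a, b, x, y} := by
  classical
  obtain ⟨t, ht, et⟩ := (h.pairs _).2 ⟨mul_mem (h.pts.mem _) hu, hn⟩
  obtain ⟨x, y, hxy, rfl⟩ := Finset.card_eq_two.1 ht
  have e : u = val (({a, b} : Finset GolayPt) ∆ {x, y}) := by
    rw [h.pts.mul, et, ← mul_assoc, h.pts.sq _ (h.pts.mem _), one_mul]
  have hc := card_symmDiff' ({a, b} : Finset GolayPt) {x, y}
  rw [Finset.card_pair hab, Finset.card_pair hxy] at hc
  have hnot : ∀ p, p ∈ ({a, b} : Finset GolayPt) → p ∈ ({x, y} : Finset GolayPt) → False := by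
    intro p hp hq
    have hpos : 0 < (({a, b} : Finset GolayPt) ∩ {x, y}).card :=
      Finset.card_pos.2 ⟨p, Finset.mem_inter.2 ⟨hp, hq⟩⟩
    rcases Nat.lt_or_ge (({a, b} : Finset GolayPt) ∩ {x, y}).card 2 with h1 | h2
    · exact ((h.pairs u).1 ⟨_, by omega, e.symm⟩).2.2 hzu
    · have h0 : (({a, b} : Finset GolayPt) ∆ {x, y}) = ∅ := Finset.card_eq_zero.1 (by omega)
      rw [h0, h.empty] at e
      exact h.not_one (e ▸ hzu)
  have hax : a ≠ x := fun e => hnot a (by simp) (by simp [e])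
  have hay : a ≠ y := fun e => hnot a (by simp) (by simp [e])
  have hbx : b ≠ x := fun e => hnot b (by simp) (by simp [e])
  have hby : b ≠ y := fun e => hnot b (by simp) (by simp [e])
  refine ⟨x, y, by simp [hab, hxy, hax, hay, hbx, hby], e.trans (congrArg val ?_)⟩
  ext p
  simp only [Finset.mem_symmDiff, Finset.mem_insert, Finset.mem_singleton]
  constructor
  · tauto
  · rintro (rfl | rfl | rfl | rfl)
    exacts [Or.inl ⟨Or.inl rfl, by simp [hax, hay]⟩, Or.inl ⟨Or.inr rfl, by simp [hbx, hby]⟩,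
      Or.inr ⟨Or.inl rfl, by simp [Ne.symm hax, Ne.symm hbx]⟩, Or.inr ⟨Or.inr rfl, by simp [Ne.symm hay, Ne.symm hby]⟩]

theorem Pic.four (h : Pic z A val) {a b c : GolayPt} (hab : a ≠ b) (hac : a ≠ c) (hbc : b ≠ c) {u : G} (hu : u ∈ A)
    (hzu : IsConj z u) (h1 : Nc z (val {a, b} * u)) (h2 : Nc z (val {a, c} * u)) :
    ∃ x, [a, b, c, x].Nodup ∧ u = val {a, b, c, x} := by
  classical
  obtain ⟨x, y, hnd, rfl⟩ := h.quad hab hu hzu h1
  simp only [List.nodup_cons, List.mem_cons, List.not_mem_nil, or_false, not_or, List.nodup_nil, and_true,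
    not_false_eq_true] at hnd
  obtain ⟨⟨-, hax, hay⟩, ⟨hbx, hby⟩, hxy⟩ := hnd
  by_cases hcx : c = x
  · subst hcx; exact ⟨y, by simp [hab, hac, hay, hbc, hby, hxy], rfl⟩
  by_cases hcy : c = y
  · subst hcy; exact ⟨x, by simp [hab, hac, hax, hbc, hbx, Ne.symm hxy], by rw [Finset.pair_comm x c]⟩
  exfalso
  obtain ⟨t, ht, et⟩ := (h.pairs _).2 ⟨mul_mem (h.pts.mem _) hu, h2⟩
  have hs : ({a, c} : Finset GolayPt) ∆ {a, b, x, y} = {b, c, x, y} := by
    ext p
    simp only [Finset.mem_symmDiff, Finset.mem_insert, Finset.mem_singleton]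
    constructor
    · tauto
    · rintro (rfl | rfl | rfl | rfl)
      exacts [Or.inr ⟨Or.inr (Or.inl rfl), by simp [Ne.symm hab, hbc]⟩,
        Or.inl ⟨Or.inr rfl, by simp [Ne.symm hac, Ne.symm hbc, hcx, hcy]⟩,
        Or.inr ⟨Or.inr (Or.inr (Or.inl rfl)), by simp [Ne.symm hax, Ne.symm hcx]⟩,
        Or.inr ⟨Or.inr (Or.inr (Or.inr rfl)), by simp [Ne.symm hay, Ne.symm hcy]⟩]
  rw [← h.pts.mul, hs] at et
  have hc4 : ({b, c, x, y} : Finset GolayPt).card = 4 := by simp [hbc, hbx, hby, hcx, hcy, hxy]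
  have := h.pts.eq_of_val (s := t) (t := {b, c, x, y}) ⟨3, by omega⟩ (by omega) et
  rw [this] at ht
  omega

theorem Pic.mul_four (h : Pic z A val) {a b c x y : GolayPt} (hxy : x ≠ y) (hx : [a, b, c, x].Nodup)
    (hy : [a, b, c, y].Nodup) : val {a, b, c, x} * val {a, b, c, y} = val {x, y} := by
  classical
  simp only [List.nodup_cons, List.mem_cons, List.not_mem_nil, or_false, not_or, List.nodup_nil, and_true,
    not_false_eq_true] at hx hy
  rw [← h.pts.mul]
  congr 1
  ext p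
  simp only [Finset.mem_symmDiff, Finset.mem_insert, Finset.mem_singleton]
  constructor
  · tauto
  · rintro (rfl | rfl)
    · exact Or.inl ⟨by simp, by simp [hxy, Ne.symm hx.1.2.2, Ne.symm hx.2.1.2, Ne.symm hx.2.2]⟩
    · exact Or.inr ⟨by simp, by simp [Ne.symm hxy, Ne.symm hy.1.2.2, Ne.symm hy.2.1.2, Ne.symm hy.2.2]⟩

/-- Moving a fourth point, fixing a triangle. -/
theorem Pic.move (h : Pic z A val) {a b c x y : GolayPt} (hx : [a, b, c, x].Nodup) (hy : [a, b, c, y].Nodup) :
    ∃ n ∈ Subgroup.normalizer (A : Set G), n * val {a, b} = val {a, b} * n ∧ n * val {a, c} = val {a, c} * n ∧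
      n * val {a, b, c, x} * n⁻¹ = val {a, b, c, y} := by
  classical
  obtain ⟨σ, hσ, hmap⟩ := exists_map (n := 4) (by norm_num) (x := ![a, b, c, x]) (y := ![a, b, c, y])
    (inj_of_nodup (by simpa [List.ofFn_succ] using hx)) (inj_of_nodup (by simpa [List.ofFn_succ] using hy))
  obtain ⟨n, hn, hact⟩ := h.lift σ hσ
  have ha : σ a = a := hmap 0
  have hb : σ b = b := hmap 1
  have hc : σ c = c := hmap 2
  have hxy : σ x = y := hmap 3
  have key : ∀ p q, p ≠ q → σ p = p → σ q = q → n * val {p, q} = val {p, q} * n := fun p q hpq e1 e2 => by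
    have := hact {p, q} (by rw [Finset.card_pair hpq]; exact even_two)
    rw [Finset.smul_finset_insert, Finset.smul_finset_singleton, Equiv.Perm.smul_def, Equiv.Perm.smul_def, e1,
      e2] at this
    exact mul_inv_eq_iff_eq_mul.1 this
  simp only [List.nodup_cons, List.mem_cons, List.not_mem_nil, or_false, not_or, List.nodup_nil, and_true,
    not_false_eq_true] at hx
  refine ⟨n, hn, key a b hx.1.1 ha hb, key a c hx.1.2.1 ha hc, ?_⟩
  rw [hact _ (by simp [hx.1.1, hx.1.2.1, hx.1.2.2, hx.2.1.1, hx.2.1.2, hx.2.2]; decide)]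
  simp [Finset.smul_finset_insert, Finset.smul_finset_singleton, Equiv.Perm.smul_def, ha, hb, hc, hxy]

/-- Moving a fifth point, fixing four. -/
theorem Pic.move_five (h : Pic z A val) {a b c w x y : GolayPt} (hx : [a, b, c, w, x].Nodup)
    (hy : [a, b, c, w, y].Nodup) :
    ∃ n ∈ Subgroup.normalizer (A : Set G), n * val {a, b} = val {a, b} * n ∧ n * val {a, c} = val {a, c} * n ∧
      n * val {a, b, c, w} = val {a, b, c, w} * n ∧ n * val {a, b, c, x} * n⁻¹ = val {a, b, c, y} := by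
  classical
  obtain ⟨σ, hσ, hmap⟩ := exists_map (n := 5) le_rfl (x := ![a, b, c, w, x]) (y := ![a, b, c, w, y])
    (inj_of_nodup (by simpa [List.ofFn_succ] using hx)) (inj_of_nodup (by simpa [List.ofFn_succ] using hy))
  obtain ⟨n, hn, hact⟩ := h.lift σ hσ
  have ha : σ a = a := hmap 0
  have hb : σ b = b := hmap 1
  have hc : σ c = c := hmap 2
  have hw : σ w = w := hmap 3
  have hxy : σ x = y := hmap 4
  have key : ∀ p q, p ≠ q → σ p = p → σ q = q → n * val {p, q} = val {p, q} * n := fun p q hpq e1 e2 => by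
    have := hact {p, q} (by rw [Finset.card_pair hpq]; exact even_two)
    rw [Finset.smul_finset_insert, Finset.smul_finset_singleton, Equiv.Perm.smul_def, Equiv.Perm.smul_def, e1,
      e2] at this
    exact mul_inv_eq_iff_eq_mul.1 this
  simp only [List.nodup_cons, List.mem_cons, List.not_mem_nil, or_false, not_or, List.nodup_nil, and_true,
    not_false_eq_true] at hx
  obtain ⟨⟨hab, hac, haw, hax⟩, ⟨hbc, hbw, hbx⟩, ⟨hcw, hcx⟩, -⟩ := hx
  refine ⟨n, hn, key a b hab ha hb, key a c hac ha hc, mul_inv_eq_iff_eq_mul.1 ?_, ?_⟩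
  · rw [hact _ (by simp [hab, hac, haw, hbc, hbw, hcw]; decide)]
    simp [Finset.smul_finset_insert, Finset.smul_finset_singleton, Equiv.Perm.smul_def, ha, hb, hc, hw]
  · rw [hact _ (by simp [hab, hac, hax, hbc, hbx, hcx]; decide)]
    simp [Finset.smul_finset_insert, Finset.smul_finset_singleton, Equiv.Perm.smul_def, ha, hb, hc, hxy]

/-- The configuration of a four-group in the second class. -/
theorem Pic.config (h : Pic z A val) {e1 e2 : G} (h1 : e1 ∈ A) (h2 : e2 ∈ A) (n1 : Nc z e1) (n2 : Nc z e2)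
    (n3 : Nc z (e1 * e2)) (z1 : Nc z (e1 * z)) (z2 : Nc z (e2 * z)) :
    ∃ a b c w, [a, b, c, w].Nodup ∧ e1 = val {a, b} ∧ e2 = val {a, c} ∧ z = val {a, b, c, w} := by
  classical
  obtain ⟨s, hs, rfl⟩ := (h.pairs _).2 ⟨h1, n1⟩
  obtain ⟨t, ht, rfl⟩ := (h.pairs _).2 ⟨h2, n2⟩
  have hi := (h.pts.val_pair_mem hs ht).1 ((h.pairs _).2 ⟨mul_mem h1 h2, n3⟩)
  obtain ⟨a, ha⟩ := Finset.card_eq_one.1 hi
  obtain ⟨has, hat⟩ := Finset.mem_inter.1 (ha.symm ▸ Finset.mem_singleton_self a)
  obtain ⟨b, hbs, hba⟩ := Finset.exists_mem_ne (by rw [hs]; norm_num) a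
  obtain ⟨c, hct, hca⟩ := Finset.exists_mem_ne (by rw [ht]; norm_num) a
  have es := pair_eq (Ne.symm hba) hs has hbs
  have et := pair_eq (Ne.symm hca) ht hat hct
  have hbc : b ≠ c := fun e => hba (Finset.mem_singleton.1 (ha ▸ Finset.mem_inter.2 ⟨hbs, e ▸ hct⟩))
  subst es et
  obtain ⟨w, hw, e⟩ := h.four (Ne.symm hba) (Ne.symm hca) hbc h.zA (_root_.isConj_iff.2 ⟨1, by group⟩) z1 z2
  exact ⟨a, b, c, w, hw, rfl, rfl, e⟩

theorem Pic.isConj_four (h : Pic z A val) {a b c w x : GolayPt} (hw : [a, b, c, w].Nodup)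
    (hz : z = val {a, b, c, w}) (hx : [a, b, c, x].Nodup) : IsConj z (val {a, b, c, x}) := by
  obtain ⟨n, -, -, -, e⟩ := h.move hw hx
  refine _root_.isConj_iff.2 ⟨n, ?_⟩
  rw [hz]; exact e

/-- The four-group lies in the derived group of its centraliser. -/
theorem Pic.derived (h : Pic z A val) {a b c : GolayPt} (hab : a ≠ b) (hac : a ≠ c) (hbc : b ≠ c) (C : Subgroup G)
    (hC : ∀ g, g ∈ C ↔ g * val {a, b} = val {a, b} * g ∧ g * val {a, c} = val {a, c} * g) :
    val {a, b} ∈ ⁅C, C⁆ ∧ val {a, c} ∈ ⁅C, C⁆ := by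
  classical
  have hAC : ∀ s, val s ∈ C := fun s => (hC _).2
    ⟨h.comm _ (h.pts.mem _) _ (h.pts.mem _), h.comm _ (h.pts.mem _) _ (h.pts.mem _)⟩
  have hpair : ∀ x y, x ≠ y → x ∉ [a, b, c] → y ∉ [a, b, c] → val {x, y} ∈ ⁅C, C⁆ := by
    intro x y hxy hx hy
    simp only [List.mem_cons, List.not_mem_nil, or_false, not_or] at hx hy
    have hx' : [a, b, c, x].Nodup := by simp [hab, hac, hbc, Ne.symm hx.1, Ne.symm hx.2.1, Ne.symm hx.2.2]
    have hy' : [a, b, c, y].Nodup := by simp [hab, hac, hbc, Ne.symm hy.1, Ne.symm hy.2.1, Ne.symm hy.2.2]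
    obtain ⟨n, -, n1, n2, e⟩ := h.move hx' hy'
    have hc := Subgroup.commutator_mem_commutator ((hC n).2 ⟨n1, n2⟩) (hAC {a, b, c, x})
    rw [commutatorElement_def, e, h.inv_eq (h.pts.mem _), h.mul_four (Ne.symm hxy) hy' hx', Finset.pair_comm] at hc
    exact hc
  have hset : ∀ s : Finset GolayPt, Even s.card → (∀ p ∈ s, p ∉ [a, b, c]) → val s ∈ ⁅C, C⁆ := by
    intro s
    induction s using Finset.strongInductionOn with
    | _ s ih =>
      intro hev hout
      rcases Finset.eq_empty_or_nonempty s with rfl | ⟨p, hp⟩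
      · rw [h.empty]; exact one_mem _
      obtain ⟨q, hq, hqp⟩ := Finset.exists_mem_ne (s := s) (by
        obtain ⟨r, hr⟩ := hev
        have := Finset.card_pos.2 ⟨p, hp⟩
        omega) p
      have hsub : ({p, q} : Finset GolayPt) ⊆ s := by simp [Finset.insert_subset_iff, hp, hq]
      have hs : s = ({p, q} : Finset GolayPt) ∆ (s \ {p, q}) := by
        ext u
        have : u ∈ ({p, q} : Finset GolayPt) → u ∈ s := fun h => hsub h
        rw [Finset.mem_symmDiff, Finset.mem_sdiff]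
        tauto
      have hcard : (s \ {p, q}).card + 2 = s.card := by
        rw [← Finset.card_pair (Ne.symm hqp)]
        exact Finset.card_sdiff_add_card_eq_card hsub
      have hev' : Even (s \ {p, q}).card := by
        rw [← hcard] at hev
        exact (Nat.even_add.1 hev).2 even_two
      rw [hs, h.pts.mul]
      exact mul_mem (hpair p q (Ne.symm hqp) (hout p hp) (hout q hq))
        (ih _ (Finset.sdiff_ssubset hsub ⟨p, Finset.mem_insert_self ..⟩) hev' fun u hu =>
          hout u (Finset.mem_sdiff.1 hu).1)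
  have side : ∀ p q r, p ≠ q → p ≠ r → q ≠ r → (∀ u, u ∈ [p, q, r] ↔ u ∈ [a, b, c]) →
      val {p, q} ∈ ⁅C, C⁆ := by
    intro p q r hpq hpr hqr hiff
    have hcard : (Spor.Golay.pts octA).card = 8 := octad_card pts_octA_mem
    obtain ⟨p0, q0, hp0, hq0, hpq0⟩ := Finset.one_lt_card_iff.1 (show 1 < (Spor.Golay.pts octA).card by omega)
    obtain ⟨r0, hr0⟩ : ∃ r0, r0 ∉ Spor.Golay.pts octA := by
      by_contra hcon
      push Not at hcon
      have : (Spor.Golay.pts octA) = Finset.univ := Finset.eq_univ_of_forall hcon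
      rw [this, Finset.card_univ, card_golayPt] at hcard
      omega
    obtain ⟨σ, hσ, hmap⟩ := exists_map (n := 3) (by norm_num) (x := ![p0, q0, r0]) (y := ![p, q, r])
      (inj_of_nodup (by simp [List.ofFn_succ, hpq0, show p0 ≠ r0 from fun e => hr0 (e ▸ hp0),
        show q0 ≠ r0 from fun e => hr0 (e ▸ hq0)]))
      (inj_of_nodup (by simp [List.ofFn_succ, hpq, hpr, hqr]))
    obtain ⟨n, -, hact⟩ := h.lift σ hσ
    set O := σ • Spor.Golay.pts octA with hO
    have hOc : O.card = 8 := by rw [hO, Finset.card_smul_finset, hcard]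
    have hO1 : val O = 1 := by
      rw [hO, ← hact _ (by rw [hcard]; decide), h.code pts_octA_mem.1, mul_one, mul_inv_cancel]
    have hmem : ∀ u, σ u ∈ O ↔ u ∈ Spor.Golay.pts octA := fun u => by
      rw [hO, ← Equiv.Perm.smul_def, Finset.smul_mem_smul_finset_iff]
    clear_value O
    clear hO
    have e0 : σ p0 = p := hmap 0
    have e1 : σ q0 = q := hmap 1
    have e2 : σ r0 = r := hmap 2
    have hp : p ∈ O := e0 ▸ (hmem p0).2 hp0
    have hq : q ∈ O := e1 ▸ (hmem q0).2 hq0
    have hr : r ∉ O := e2 ▸ fun h => hr0 ((hmem r0).1 h)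
    have hsub : ({p, q} : Finset GolayPt) ⊆ O := by simp [Finset.insert_subset_iff, hp, hq]
    have hdec : O = ({p, q} : Finset GolayPt) ∆ (O \ {p, q}) := by
      ext u
      have : u ∈ ({p, q} : Finset GolayPt) → u ∈ O := fun h => hsub h
      rw [Finset.mem_symmDiff, Finset.mem_sdiff]
      tauto
    have hrest : (O \ {p, q}).card + 2 = 8 := by
      rw [← Finset.card_pair hpq, ← hOc]
      exact Finset.card_sdiff_add_card_eq_card hsub
    have hv := hset (O \ {p, q}) (by rw [show (O \ {p, q}).card = 6 by omega]; decide) fun u hu hu' => by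
      obtain ⟨hu1, hu2⟩ := Finset.mem_sdiff.1 hu
      have := (hiff u).2 hu'
      simp only [List.mem_cons, List.not_mem_nil, or_false] at this
      rcases this with rfl | rfl | rfl
      · exact hu2 (by simp)
      · exact hu2 (by simp)
      · exact hr hu1
    rw [hdec, h.pts.mul] at hO1
    rw [eq_inv_of_mul_eq_one_left hO1]
    exact inv_mem hv
  exact ⟨side a b c hab hac hbc fun u => Iff.rfl,
    side a c b hac hab (Ne.symm hbc) fun u => by
      simp only [List.mem_cons, List.not_mem_nil, or_false]; tauto⟩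

end Cfsg.Agent.Fus.U62Four
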