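/-
A conjugate of the group of order `2^11` over a totally singular space through the first vector of the short orbit,
with the four-group over the multiples of that vector.
-/
import Cfsg.Agent.Lib.Fus.U62Four.Sextet
import Cfsg.Agent.Lib.Fus.LargeFischerNorm
import Cfsg.Agent.Lib.Fus.LargeFischerStab

set_option autoImplicit false
set_option maxRecDepth 100000
set_option linter.unusedSectionVars false
set_option linter.style.haveILetI false

open Cfsg Cfsg.Agent.Classical Cfsg.Agent.Spor.LargeFischer Matrix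
open Cfsg.Agent.Spor.USixTwo (K4 vecOf)
open Cfsg.Agent.Spor.U62U43 (cover62)
open Cfsg.Agent.Fus.LargeFischerScalar Cfsg.Agent.Fus.LargeFischerAbelian
open Cfsg.Agent.Fus.LargeFischerLocal (AK)

namespace Cfsg.Agent.Fus.U62Four

/-- The multiples of a code. -/
def mulsC (k c : ℕ) : List ℕ := [0, c, (dat k).omC c, (dat k).omC ((dat k).omC c)]

/-- The span of two codes. -/
def span2C (k a b : ℕ) : List ℕ := (mulsC k a).flatMap fun x => (mulsC k b).map (x ^^^ ·)

/-- The span of three codes. -/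
def span3C (k a b c : ℕ) : List ℕ := (span2C k a b).flatMap fun x => (mulsC k c).map (x ^^^ ·)

/-- A code above another. -/
def aboveC (k u o : ℕ) : Bool :=
  Nat.beq ((dat k).labC o) 1 && Nat.beq ((dat k).labC (o ^^^ u)) 2 &&
    Nat.beq ((dat k).labC (o ^^^ (dat k).omC u)) 2 && Nat.beq ((dat k).labC (o ^^^ (dat k).omC ((dat k).omC u))) 2

/-- The fixed space has a basis of a member of the short orbit and two above it. -/
def chkU (k : ℕ) : Bool :=
  (LargeFischerSylow.uw k).any fun u => Nat.beq ((dat k).labC u) 1 && (LargeFischerSylow.uw k).any fun o1 =>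
    aboveC k u o1 && (LargeFischerSylow.uw k).any fun o2 =>
      aboveC k u o2 && !(span2C k u o1).contains o2 &&
        (LargeFischerSylow.uw k).all fun w => (span3C k u o1 o2).contains w

theorem u_ok : ∀ k < 3, chkU k = true := by decide +kernel

variable {G : Type*} [Group G] [Finite G] {z : G} {Q : Subgroup (Subgroup.centralizer ({z} : Set G))}
  [hQn : Q.Normal] (m : Model z Q)

/-- The span of the vector and two more. -/
def Sp (v a b w : Fin 6 → K4) : Prop := ∃ r s t : K4, w = r • v + s • a + t • b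

theorem sp_v (v a b : Fin 6 → K4) (r : K4) : Sp v a b (r • v) := ⟨r, 0, 0, by simp⟩

/-- The frame: the group, its points, the four-group and the singular space. -/
structure Ctx (m : Model z Q) where
  /-- the group -/
  A : Subgroup G
  /-- its points -/
  val : Finset GolayPt → G
  /-- the triangle and the fourth point -/
  a : GolayPt
  b : GolayPt
  c : GolayPt
  w : GolayPt
  /-- two vectors spanning the space with the first vector -/
  O1 : Fin 6 → K4
  O2 : Fin 6 → K4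
  /-- two generators of the four-group -/
  e1 : Q
  e2 : Q
  pic : Pic z A val
  nodup : [a, b, c, w].Nodup
  he1 : gv e1 = val {a, b}
  he2 : gv e2 = val {a, c}
  hz : z = val {a, b, c, w}
  rep1 : m.rep e1 = rep m.k 1
  rep2 : m.rep e2 = ω • rep m.k 1
  inO1 : InO m.k (rep m.k 1) O1
  inO2 : InO m.k (rep m.k 1) O2
  orth : hermForm 6 K4 2 O1 O2 = 0
  indep : ∀ r s : K4, O2 ≠ r • rep m.k 1 + s • O1
  le : A ≤ Subgroup.centralizer ({z} : Set G)
  conjA : ∃ h : G, A = (AK m).map (MulAut.conj h).toMonoidHom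
  fixes : ∀ g : Subgroup.centralizer ({z} : Set G), (g : G) ∈ A → g ∈ m.M ∧
    ∀ v, Sp (rep m.k 1) O1 O2 v → m.act g v = v
  qu_mem : ∀ x : Q, Sp (rep m.k 1) O1 O2 (m.rep x) → gv x ∈ A
  into : ∀ g : Subgroup.centralizer ({z} : Set G), g ∈ m.M →
    (∀ x : Q, Sp (rep m.k 1) O1 O2 (m.rep x) → (g : G) * gv x = gv x * (g : G)) → (g : G) ∈ A
  lift : ∀ g : Subgroup.centralizer ({z} : Set G), g ∈ m.M →
    (∀ v, Sp (rep m.k 1) O1 O2 v → m.act g v = v) →
    ∃ a : Subgroup.centralizer ({z} : Set G), (a : G) ∈ A ∧ a⁻¹ * g ∈ Q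

/-- The lifts of the multiples of the first vector are not in the class of the centre. -/
theorem nc_of_lab_one {x : Q} (h : m.lab x = 1) : Nc z (gv x) := by
  obtain ⟨-, h1, hz⟩ := m.of_lab (Or.inl h)
  refine ⟨h1, fun hc => ?_⟩
  have := LargeFischerCoset.conj_lab_two (m := m) hc hz
  omega

theorem mulsC_sound {k c : ℕ} (hk : k < 3) (hc : c < 4096) (r : K4) :
    ∃ d ∈ mulsC k c, d < 4096 ∧ vecOf d = r • vecOf c := by
  obtain ⟨o1, l1⟩ := om_code hk hc
  obtain ⟨o2, l2⟩ := om_code hk l1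
  rcases k4_cases r with rfl | rfl | rfl | rfl
  · exact ⟨0, by simp [mulsC], by norm_num, by rw [zero_smul, vecOf_zero]⟩
  · exact ⟨c, by simp [mulsC], hc, by rw [one_smul]⟩
  · exact ⟨_, by simp [mulsC], l1, o1.symm⟩
  · exact ⟨_, by simp [mulsC], l2, by rw [← smul_smul, ω, o1, o2]⟩

theorem mulsC_cases {k c d : ℕ} (hk : k < 3) (hc : c < 4096) (hd : d ∈ mulsC k c) :
    ∃ r : K4, vecOf d = r • vecOf c := by
  obtain ⟨o1, l1⟩ := om_code hk hc
  obtain ⟨o2, -⟩ := om_code hk l1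
  simp only [mulsC, List.mem_cons, List.not_mem_nil, or_false] at hd
  rcases hd with rfl | rfl | rfl | rfl
  · exact ⟨0, by rw [zero_smul, vecOf_zero]⟩
  · exact ⟨1, (one_smul _ _).symm⟩
  · exact ⟨ω, o1.symm⟩
  · exact ⟨ω * ω, by rw [← smul_smul, ω, o1, o2]⟩

theorem exists_space : ∃ (n : m.M) (O1 O2 : Fin 6 → K4), InO m.k (rep m.k 1) O1 ∧ InO m.k (rep m.k 1) O2 ∧
    hermForm 6 K4 2 O1 O2 = 0 ∧ (∀ r s : K4, O2 ≠ r • rep m.k 1 + s • O1) ∧
    ∀ v, Sp (rep m.k 1) O1 O2 v ↔ InU m ((m.lin n)⁻¹ • v) := by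
  have hk := m.hk
  obtain ⟨-, -, hlt, horth, -, -, -, -⟩ := LargeFischerSylow.uw_facts hk
  have h := u_ok m.k hk
  simp only [chkU, aboveC, List.any_eq_true, Bool.and_eq_true, List.all_eq_true, Nat.beq_eq, List.contains_iff_mem,
    Bool.not_eq_true', Bool.eq_false_iff, ne_eq] at h
  obtain ⟨u, hu, hlu, o1, ho1, habove1, o2, ho2, ⟨habove2, hind⟩, hspan⟩ := h
  have lu := hlt u hu
  have l1 := hlt o1 ho1
  have l2 := hlt o2 ho2
  have hU : ∀ {c}, c ∈ LargeFischerSylow.uw m.k → InU m (vecOf c) := fun {c} hc =>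
    (LargeFischerSylow.fix_E hk _).2 (by rw [enc6_vecOf (hlt c hc)]; exact hc)
  have hlab : labV m.k (vecOf u) = 1 := by rw [labV, enc6_vecOf lu]; exact hlu
  have hab : ∀ {o}, o < 4096 → o ∈ LargeFischerSylow.uw m.k →
      ((((dat m.k).labC o = 1 ∧ (dat m.k).labC (o ^^^ u) = 2) ∧ (dat m.k).labC (o ^^^ (dat m.k).omC u) = 2) ∧
        (dat m.k).labC (o ^^^ (dat m.k).omC ((dat m.k).omC u)) = 2) → InO m.k (vecOf u) (vecOf o) := by
    rintro o lo ho ⟨⟨⟨a1, a2⟩, a3⟩, a4⟩
    obtain ⟨p1, q1⟩ := om_code hk lu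
    obtain ⟨p2, q2⟩ := om_code hk q1
    refine ⟨by rw [labV, enc6_vecOf lo]; exact a1, inU_herm m (hU hu) (hU ho), ?_, ?_, ?_⟩
    · rw [← vecOf_xor, labV, enc6_vecOf (Nat.xor_lt_two_pow (n := 12) lo lu)]; exact a2
    · rw [p1, ← vecOf_xor, labV, enc6_vecOf (Nat.xor_lt_two_pow (n := 12) lo q1)]; exact a3
    · rw [p1, p2, ← vecOf_xor, labV, enc6_vecOf (Nat.xor_lt_two_pow (n := 12) lo q2)]; exact a4
  obtain ⟨x, hx, ex⟩ := transitive hk (Or.inl rfl) hlab (rep_first m.k hk).1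
  obtain ⟨n, rfl⟩ := m.exists_lin hx
  refine ⟨n, m.lin n • vecOf o1, m.lin n • vecOf o2,
    ex ▸ (inO_smul hk hx _ _).2 (hab l1 ho1 habove1), ex ▸ (inO_smul hk hx _ _).2 (hab l2 ho2 habove2),
    by rw [smul_herm]; exact inU_herm m (hU ho1) (hU ho2), fun r s e => hind ?_, fun v => ⟨?_, ?_⟩⟩
  · rw [← ex, ← smul_scalar, ← smul_scalar, ← smul_add'] at e
    have e' : vecOf o2 = r • vecOf u + s • vecOf o1 := by
      have := congrArg ((m.lin n)⁻¹ • ·) e
      simpa only [inv_smul_smul] using this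
    obtain ⟨d, hd, ld, ed⟩ := mulsC_sound hk lu r
    obtain ⟨d', hd', ld', ed'⟩ := mulsC_sound hk l1 s
    rw [← ed, ← ed', ← vecOf_xor] at e'
    rw [vecOf_inj l2 (Nat.xor_lt_two_pow (n := 12) ld ld') e', span2C, List.mem_flatMap]
    exact ⟨d, hd, List.mem_map.2 ⟨d', hd', rfl⟩⟩
  · rintro ⟨r, s, t, rfl⟩
    rw [← ex, ← smul_scalar, ← smul_scalar, ← smul_scalar, ← smul_add', ← smul_add', inv_smul_smul]
    exact inU_add m (inU_add m (inU_smul m r (hU hu)) (inU_smul m s (hU ho1))) (inU_smul m t (hU ho2))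
  · intro hv
    have hc : enc6 ((m.lin n)⁻¹ • v) ∈ LargeFischerSylow.uw m.k := (LargeFischerSylow.fix_E hk _).1 hv
    have hs := hspan _ hc
    simp only [span3C, span2C, List.mem_flatMap, List.mem_map] at hs
    obtain ⟨_, ⟨d, hd, d', hd', rfl⟩, d'', hd'', e⟩ := hs
    obtain ⟨r, er⟩ := mulsC_cases hk lu hd
    obtain ⟨s, es⟩ := mulsC_cases hk l1 hd'
    obtain ⟨t, et⟩ := mulsC_cases hk l2 hd''
    refine ⟨r, s, t, ?_⟩
    have e2 := congrArg vecOf e
    rw [vecOf_xor, vecOf_xor, vecOf_enc6, er, es, et] at e2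
    have e3 := congrArg (m.lin n • ·) e2
    simp only [smul_inv_smul, smul_add', smul_scalar, ex] at e3
    exact e3.symm

theorem exists_ctx (hF : IsOfLargeFischerTypeAt z Q) : Nonempty (Ctx m) := by
  classical
  haveI : Fact (Nat.Prime 2) := ⟨Nat.prime_two⟩
  obtain ⟨n, O1, O2, i1, i2, horth, hind, hsp⟩ := exists_space m
  set h : G := ((n : Subgroup.centralizer ({z} : Set G)) : G) with hh
  set A : Subgroup G := (AK m).map (MulAut.conj h).toMonoidHom with hA
  have hmem : ∀ g : Subgroup.centralizer ({z} : Set G),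
      (g : G) ∈ A ↔ (n : Subgroup.centralizer ({z} : Set G))⁻¹ * g * n ∈ K0 m := fun g => by
    constructor
    · rintro ⟨_, ⟨y, hy, rfl⟩, e⟩
      have e' : g = n * y * (n : Subgroup.centralizer ({z} : Set G))⁻¹ := Subtype.ext (by simpa using e.symm)
      rw [e']
      simpa [mul_assoc] using hy
    · intro hy
      refine ⟨_, ⟨_, hy, rfl⟩, ?_⟩
      simp only [MulEquiv.toMonoidHom_eq_coe, MonoidHom.coe_coe, MulAut.conj_apply, Subgroup.coe_subtype,
        Subgroup.coe_mul, Subgroup.coe_inv, hh]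
      group
  have hle : A ≤ Subgroup.centralizer ({z} : Set G) := by
    rintro _ ⟨_, ⟨y, -, rfl⟩, rfl⟩
    exact ((n : Subgroup.centralizer ({z} : Set G)) * y * (n : Subgroup.centralizer ({z} : Set G))⁻¹).2
  have hbig : LargeFischerLocal.Big A := (LargeFischerLocal.AK_big m).map (MulAut.conj h).injective
  have hcard : Nat.card A = 2 ^ 11 := by
    rw [hA, Subgroup.card_map_of_injective (MulAut.conj h).injective, LargeFischerLocal.card_AK]
  obtain ⟨T, hT⟩ := (IsPGroup.of_card hcard).exists_le_sylow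
  have hthom : A = thompsonSubgroupOf 2 (T : Subgroup G) :=
    (LargeFischerLocal.thompson_eq hT hbig fun C hC hb => LargeFischerLocal.big_eq m hF hC hb hT hbig).symm
  obtain ⟨-, -, -, -, val, χ, hpts, hpairs, hsurj, -, hχ⟩ := LargeFischerNorm.exists_action z Q hF T A hthom
  have hzA : z ∈ A := by
    rw [show z = ((LargeFischerLocal.zH : Subgroup.centralizer ({z} : Set G)) : G) from rfl, hmem,
      mul_assoc, ← LargeFischerLocal.zH_comm, ← mul_assoc, inv_mul_cancel, one_mul]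
    exact LargeFischerLocal.zH_mem_K0 m
  have hpic : Pic z A val :=
    { pts := hpts
      comm := hbig.1
      pairs := hpairs
      lift := fun σ hσ => by
        obtain ⟨g, hg⟩ := hsurj ⟨σ, hσ⟩
        exact ⟨g, g.2, fun s hs => by rw [hχ g s hs, hg]⟩
      zA := hzA
      ne := m.ext.ne }
  have hqu : ∀ x : Q, Sp (rep m.k 1) O1 O2 (m.rep x) → gv x ∈ A := fun x hx => by
    rw [hmem]
    have : qconj (n : Subgroup.centralizer ({z} : Set G))⁻¹ x ∈ qu m := by
      show InU m (m.rep _)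
      rw [← m.act_rep, show (n : Subgroup.centralizer ({z} : Set G))⁻¹ =
        ((n⁻¹ : m.M) : Subgroup.centralizer ({z} : Set G)) from rfl, m.lin_act, map_inv]
      exact (hsp _).1 hx
    have := qu_le m this
    simpa [qconj] using this
  obtain ⟨e1, r1⟩ := m.rep_surj (rep m.k 1)
  obtain ⟨e2, r2⟩ := m.rep_surj (ω • rep m.k 1)
  have hl1 : labV m.k (rep m.k 1) = 1 := (rep_first m.k m.hk).1
  have hlom : ∀ v, labV m.k (ω • v) = labV m.k v := LargeFischerStab.lab_om m
  obtain ⟨zq, hzq, -⟩ := LargeFischerLocal.exists_zQ m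
  have hlab : ∀ x : Q, (m.rep x = rep m.k 1 ∨ m.rep x = ω • rep m.k 1 ∨ m.rep x = (ω * ω) • rep m.k 1) →
      Nc z (gv x) := fun x hx => nc_of_lab_one m (by
    show labV m.k (m.rep x) = 1
    rcases hx with e | e | e <;> rw [e]
    · exact hl1
    · rw [hlom, hl1]
    · rw [← smul_smul, hlom, hlom, hl1])
  have hz0 : m.rep zq = 0 := rep_z m zq hzq
  have hr12 : m.rep (e1 * e2) = (ω * ω) • rep m.k 1 := by
    rw [m.rep_mul, r1, r2]
    nth_rw 1 [← one_smul K4 (rep m.k 1)]
    rw [← add_smul, show (1 : K4) + ω = ω * ω by decide +kernel]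
  have hA1 : gv e1 ∈ A := hqu e1 ⟨1, 0, 0, by simp [r1]⟩
  have hA2 : gv e2 ∈ A := hqu e2 ⟨ω, 0, 0, by simp [r2]⟩
  obtain ⟨a, b, c, w, hnd, he1, he2, hz⟩ := hpic.config hA1 hA2 (hlab e1 (Or.inl r1))
    (hlab e2 (Or.inr (Or.inl r2))) (hlab (e1 * e2) (Or.inr (Or.inr hr12)))
    ((congrArg (Nc z) (congrArg (gv e1 * ·) hzq : gv (e1 * zq) = gv e1 * z)).mp
      (hlab (e1 * zq) (Or.inl (by rw [m.rep_mul, hz0, add_zero, r1]))))
    ((congrArg (Nc z) (congrArg (gv e2 * ·) hzq : gv (e2 * zq) = gv e2 * z)).mp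
      (hlab (e2 * zq) (Or.inr (Or.inl (by rw [m.rep_mul, hz0, add_zero, r2])))))
  refine ⟨{
    A := A, val := val, a := a, b := b, c := c, w := w, O1 := O1, O2 := O2, e1 := e1, e2 := e2
    pic := hpic, nodup := hnd, he1 := he1, he2 := he2, hz := hz, rep1 := r1, rep2 := r2
    inO1 := i1, inO2 := i2, orth := horth, indep := hind, le := hle, conjA := ⟨h, hA⟩, qu_mem := hqu
    fixes := ?_, into := ?_, lift := ?_ }⟩
  · intro g hg
    have hk0 := (hmem g).1 hg
    have hM : g ∈ m.M := by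
      have := mul_mem (mul_mem n.2 ((mem_K0 m).1 hk0).1) (inv_mem n.2)
      simpa [mul_assoc] using this
    refine ⟨hM, fun v hv => ?_⟩
    have hfix := lin_K0 m (n := n⁻¹ * ⟨g, hM⟩ * n) hk0
    have h2 := (hsp v).1 hv _ hfix
    rw [map_mul, map_mul, map_inv, ← mul_smul, mul_inv_cancel_right, mul_smul] at h2
    rw [show g = ((⟨g, hM⟩ : m.M) : Subgroup.centralizer ({z} : Set G)) from rfl, m.lin_act]
    exact MulAction.injective _ h2
  · intro g hM hcomm
    rw [hmem, mem_K0]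
    refine ⟨mul_mem (mul_mem (inv_mem n.2) hM) n.2, fun y hy => ?_⟩
    have hc := hcomm (qconj n y) (by
      rw [hsp, ← m.act_rep, m.lin_act, inv_smul_smul]
      exact hy)
    simp only [qconj, gv, Subgroup.coe_mul, Subgroup.coe_inv, ← hh] at hc ⊢
    generalize ((y : Subgroup.centralizer ({z} : Set G)) : G) = Y at hc ⊢
    calc h⁻¹ * (g : G) * h * Y = h⁻¹ * ((g : G) * (h * Y * h⁻¹)) * h := by group
      _ = h⁻¹ * ((h * Y * h⁻¹) * (g : G)) * h := by rw [hc]
      _ = _ := by group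
  · intro g hM hfix
    have he : m.lin (n⁻¹ * ⟨g, hM⟩ * n) ∈ LargeFischerSylow.E m.hk := by
      refine fixer_eq m.hk (m.lin_mem _) fun v hv => ?_
      rw [map_mul, map_mul, map_inv, mul_smul, mul_smul, inv_smul_eq_iff, ← m.lin_act]
      exact hfix _ ((hsp _).2 (by rw [inv_smul_smul]; exact hv))
    obtain ⟨p, hp, ep⟩ := exists_lift m he
    refine ⟨n * p * (n : Subgroup.centralizer ({z} : Set G))⁻¹, (hmem _).2 (by simpa [mul_assoc] using hp), ?_⟩
    have h1 : m.lin ((n * p * n⁻¹)⁻¹ * ⟨g, hM⟩) = 1 := by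
      rw [map_mul, map_inv, map_mul, map_mul, map_inv, ep, map_mul, map_mul, map_inv]
      group
    exact (m.lin_eq_one _).1 h1

end Cfsg.Agent.Fus.U62Four
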