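/-
Totally isotropic lines of the four-dimensional hermitian space over the field with four elements.
-/
import Cfsg.Agent.Lib.Spor.UnitClassTwo
import Cfsg.Agent.Lib.Spor.USixTwo.K4
import Cfsg.Agent.Lib.Block.FischerTypes.U6Class

set_option autoImplicit false
set_option maxRecDepth 100000
set_option linter.unusedSectionVars false
set_option linter.style.haveILetI false

open Matrix Cfsg Cfsg.Agent.Classical Cfsg.Agent.Classical.PSUAut Cfsg.Agent.Spor.UnitTwo
open Cfsg.Agent.Spor.USixTwo (K4)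

namespace Cfsg.Agent.Fus.U62Four

theorem hK : Fintype.card K4 = 2 ^ 2 := K4.card_eq
theorem hK4 : Fintype.card K4 = 4 := rfl

/-- The space. -/
abbrev V4 : Type := Fin 4 → K4

/-- The form. -/
abbrev fH (u v : V4) : K4 := hermForm 4 K4 2 u v

/-- A unitary transformation as a map. -/
abbrev mv (s : SU 4 K4 2) (v : V4) : V4 := suVal s *ᵥ v

theorem add_self4 (v : V4) : v + v = 0 := funext fun i => add_self hK4 (v i)

theorem eq_of_add4 {u v : V4} (h : u + v = 0) : u = v :=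
  calc u = u + (v + v) := by rw [add_self4, add_zero]
    _ = v := by rw [← add_assoc, h, zero_add]

theorem fH_add_left (u u' v : V4) : fH (u + u') v = fH u v + fH u' v := hermForm_add_left 4 u u' v

theorem fH_add_right (u v v' : V4) : fH u (v + v') = fH u v + fH u v' :=
  h_add_right hK u v v'

theorem fH_smul_left (a : K4) (u v : V4) : fH (a • u) v = a * fH u v := hermForm_smul_left 4 a u v

theorem fH_swap (u v : V4) : fH v u = fH u v ^ 2 := (hermForm_symm hK 4 u v).symm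

theorem fH_smul_right (a : K4) (u v : V4) : fH u (a • v) = a ^ 2 * fH u v := by
  rw [fH_swap (a • v) u, fH_smul_left, mul_pow, ← fH_swap]

theorem fH_zero {u v : V4} (h : fH u v = 0) : fH v u = 0 := by rw [fH_swap, h]; simp

theorem fH_sep {v w : V4} (hv : ∀ a : K4, v ≠ a • w) : ∃ x, fH x v = 1 ∧ fH x w = 0 :=
  exists_sep hK (fun ⟨a, h⟩ => hv a h)

theorem perp_perp {q r : V4} (h : ∀ x, fH x r = 0 → fH x q = 0) : ∃ a : K4, q = a • r := by
  by_contra hc
  push Not at hc
  obtain ⟨x, h1, h2⟩ := fH_sep hc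
  rw [h x h2] at h1
  exact zero_ne_one h1

theorem fH_mv (s : SU 4 K4 2) (u v : V4) : fH (mv s u) (mv s v) = fH u v := su_form s u v

/-- A totally isotropic line with a base. -/
structure Line where
  x : V4
  y : V4
  xx : fH x x = 0
  yy : fH y y = 0
  xy : fH x y = 0
  indep : ∀ a b : K4, a • x + b • y = 0 → a = 0 ∧ b = 0

/-- Lying on a line. -/
def Line.On (L : Line) (v : V4) : Prop := ∃ a b : K4, v = a • L.x + b • L.y

theorem Line.x_on (L : Line) : L.On L.x := ⟨1, 0, by simp⟩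
theorem Line.y_on (L : Line) : L.On L.y := ⟨0, 1, by simp⟩

theorem Line.x_ne (L : Line) : L.x ≠ 0 := fun h => one_ne_zero (L.indep 1 0 (by simp [h])).1

theorem Line.on_add (L : Line) {u v : V4} (hu : L.On u) (hv : L.On v) : L.On (u + v) := by
  obtain ⟨a, b, rfl⟩ := hu
  obtain ⟨c, d, rfl⟩ := hv
  exact ⟨a + c, b + d, by rw [add_smul, add_smul]; abel⟩

theorem Line.on_smul (L : Line) (a : K4) {u : V4} (hu : L.On u) : L.On (a • u) := by
  obtain ⟨c, d, rfl⟩ := hu
  exact ⟨a * c, a * d, by rw [smul_add, smul_smul, smul_smul]⟩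

theorem Line.herm (L : Line) {u v : V4} (hu : L.On u) (hv : L.On v) : fH u v = 0 := by
  obtain ⟨a, b, rfl⟩ := hu
  obtain ⟨c, d, rfl⟩ := hv
  simp only [fH_add_left, fH_add_right, fH_smul_left, fH_smul_right, L.xx, L.yy, L.xy, fH_zero L.xy, mul_zero,
    add_zero]

theorem Line.on_iff (L : Line) {v : V4} : L.On v ↔ fH v L.x = 0 ∧ fH v L.y = 0 := by
  refine ⟨fun h => ⟨L.herm h L.x_on, L.herm h L.y_on⟩, fun h => ?_⟩
  let φ : V4 →ₗ[K4] K4 × K4 :=
    { toFun := fun v => (fH v L.x, fH v L.y)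
      map_add' := fun u v => by simp [fH_add_left]
      map_smul' := fun a u => by simp [fH_smul_left] }
  have hsurj : Function.Surjective φ := by
    obtain ⟨p, hp1, hp2⟩ := fH_sep (v := L.x) (w := L.y) fun a e =>
      one_ne_zero (L.indep 1 a (by rw [one_smul, e, add_self4])).1
    obtain ⟨q, hq1, hq2⟩ := fH_sep (v := L.y) (w := L.x) fun a e =>
      one_ne_zero (L.indep a 1 (by rw [one_smul, e, add_self4])).2
    rintro ⟨c, d⟩
    refine ⟨c • p + d • q, Prod.ext ?_ ?_⟩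
    · show fH _ L.x = c
      rw [fH_add_left, fH_smul_left, fH_smul_left, hp1, hq2, mul_one, mul_zero, add_zero]
    · show fH _ L.y = d
      rw [fH_add_left, fH_smul_left, fH_smul_left, hp2, hq1, mul_one, mul_zero, zero_add]
  let ψ : K4 × K4 →ₗ[K4] V4 :=
    { toFun := fun t => t.1 • L.x + t.2 • L.y
      map_add' := fun s t => by simp only [Prod.fst_add, Prod.snd_add, add_smul]; abel
      map_smul' := fun a t => by simp [smul_add, smul_smul] }
  have hinj : Function.Injective ψ := by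
    rw [← LinearMap.ker_eq_bot, LinearMap.ker_eq_bot']
    rintro ⟨c, d⟩ e
    obtain ⟨rfl, rfl⟩ := L.indep c d e
    rfl
  have h1 := φ.finrank_range_add_finrank_ker
  rw [LinearMap.range_eq_top.2 hsurj, finrank_top, Module.finrank_prod, Module.finrank_self, Module.finrank_fin_fun]
    at h1
  have hle : LinearMap.range ψ ≤ LinearMap.ker φ := by
    rintro _ ⟨t, rfl⟩
    exact Prod.ext (L.herm ⟨t.1, t.2, rfl⟩ L.x_on) (L.herm ⟨t.1, t.2, rfl⟩ L.y_on)
  have h2 : Module.finrank K4 (LinearMap.range ψ) = 2 := by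
    rw [LinearMap.finrank_range_of_inj hinj, Module.finrank_prod, Module.finrank_self]
  have heq := Submodule.eq_of_le_of_finrank_eq hle (by omega)
  have hv : v ∈ LinearMap.ker φ := LinearMap.mem_ker.2 (Prod.ext h.1 h.2)
  rw [← heq] at hv
  obtain ⟨t, ht⟩ := hv
  exact ⟨t.1, t.2, ht.symm⟩

/-- The line of two orthogonal points. -/
def mkLine {u v : V4} (hu : fH u u = 0) (hv : fH v v = 0) (huv : fH u v = 0) (hu0 : u ≠ 0)
    (hne : ∀ a : K4, v ≠ a • u) : Line where
  x := u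
  y := v
  xx := hu
  yy := hv
  xy := huv
  indep a b h := by
    by_cases hb : b = 0
    · subst hb
      rw [zero_smul, add_zero] at h
      exact ⟨(smul_eq_zero.1 h).resolve_right hu0, rfl⟩
    · refine absurd ?_ (hne (b⁻¹ * a))
      rw [← smul_smul, eq_of_add4 h, inv_smul_smul₀ hb]

/-- A line inside another is that line. -/
theorem Line.same (L M : Line) (hx : L.On M.x) (hy : L.On M.y) (v : V4) : L.On v ↔ M.On v := by
  have hsub : ∀ v, M.On v → L.On v := by
    rintro v ⟨a, b, rfl⟩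
    exact L.on_add (L.on_smul a hx) (L.on_smul b hy)
  refine ⟨fun h => M.on_iff.2 ⟨L.herm h hx, L.herm h hy⟩, hsub v⟩

/-- Another base starting with a given point. -/
theorem Line.reparam (L : Line) {r : V4} (hr : L.On r) (hr0 : r ≠ 0) :
    ∃ M : Line, M.x = r ∧ ∀ v, M.On v ↔ L.On v := by
  obtain ⟨s, hs, hne⟩ : ∃ s, L.On s ∧ ∀ a : K4, s ≠ a • r := by
    by_contra hc
    push Not at hc
    obtain ⟨a, ha⟩ := hc L.x L.x_on
    obtain ⟨b, hb⟩ := hc L.y L.y_on
    have h := L.indep b a (by rw [ha, hb, smul_smul, smul_smul, mul_comm, add_self4])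
    exact L.x_ne (by rw [ha, h.2, zero_smul])
  exact ⟨mkLine (L.herm hr hr) (L.herm hs hs) (L.herm hr hs) hr0 hne, rfl, fun v => (L.same _ hr hs v).symm⟩

/-- A point of a line orthogonal to a vector. -/
theorem Line.meet (L : Line) (w : V4) : ∃ s, L.On s ∧ s ≠ 0 ∧ fH s w = 0 := by
  by_cases h : fH L.x w = 0
  · exact ⟨L.x, L.x_on, L.x_ne, h⟩
  refine ⟨fH L.y w • L.x + fH L.x w • L.y, ⟨_, _, rfl⟩, fun e => h (L.indep _ _ e).2, ?_⟩
  rw [fH_add_left, fH_smul_left, fH_smul_left, mul_comm, add_self hK4]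

/-- The first line. -/
def line0 : Line :=
  mkLine (u := ![1, 1, 0, 0]) (v := ![0, 0, 1, 1]) (by decide +kernel) (by decide +kernel) (by decide +kernel)
    (by decide +kernel) (by decide +kernel)

/-- A line through a point. -/
theorem thru {r : V4} (hr : fH r r = 0) (hr0 : r ≠ 0) : ∃ L : Line, L.x = r := by
  obtain ⟨s, hs, hs0, hsr⟩ := line0.meet r
  by_cases h : ∃ a : K4, s = a • r
  · obtain ⟨a, ha⟩ := h
    have ha0 : a ≠ 0 := fun e => hs0 (by rw [ha, e, zero_smul])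
    obtain ⟨M, hM, -⟩ := line0.reparam (r := r) (by
      have := line0.on_smul a⁻¹ hs
      rwa [ha, inv_smul_smul₀ ha0] at this) hr0
    exact ⟨M, hM⟩
  · push Not at h
    exact ⟨mkLine hr (line0.herm hs hs) (fH_zero hsr) hr0 h, rfl⟩

/-- A line through two orthogonal points. -/
theorem through_two {r r' : V4} (hr : fH r r = 0) (hr' : fH r' r' = 0) (hrr : fH r r' = 0) (hr0 : r ≠ 0) :
    ∃ L : Line, L.On r ∧ L.On r' := by
  by_cases h : ∃ a : K4, r' = a • r
  · obtain ⟨a, rfl⟩ := h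
    obtain ⟨L, hL⟩ := thru hr hr0
    exact ⟨L, hL ▸ L.x_on, L.on_smul a (hL ▸ L.x_on)⟩
  · push Not at h
    let L := mkLine hr hr' hrr hr0 h
    exact ⟨L, L.x_on, L.y_on⟩

/-- Totally isotropic sets lie on lines. -/
theorem line_of_iso (I : Set V4) (h : ∀ u ∈ I, ∀ v ∈ I, fH u v = 0) : ∃ L : Line, ∀ u ∈ I, L.On u := by
  by_cases h0 : ∀ u ∈ I, u = 0
  · exact ⟨line0, fun u hu => ⟨0, 0, by simp [h0 u hu]⟩⟩
  push Not at h0
  obtain ⟨r, hr, hr0⟩ := h0
  by_cases h1 : ∃ s ∈ I, ∀ a : K4, s ≠ a • r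
  · obtain ⟨s, hs, hne⟩ := h1
    let L := mkLine (h r hr r hr) (h s hs s hs) (h r hr s hs) hr0 hne
    exact ⟨L, fun u hu => L.on_iff.2 ⟨h u hu r hr, h u hu s hs⟩⟩
  · push Not at h1
    obtain ⟨L, hL⟩ := thru (h r hr r hr) hr0
    refine ⟨L, fun u hu => ?_⟩
    obtain ⟨a, rfl⟩ := h1 u hu
    exact L.on_smul a (hL ▸ L.x_on)

/-- Carrying one line to another. -/
def Carry (L M : Line) : Prop := ∃ s : SU 4 K4 2, ∀ v, L.On v → M.On (mv s v)

theorem Carry.trans {L M N : Line} (h : Carry L M) (h' : Carry M N) : Carry L N := by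
  obtain ⟨s, hs⟩ := h
  obtain ⟨t, ht⟩ := h'
  exact ⟨t * s, fun v hv => by
    show N.On (suVal (t * s) *ᵥ v)
    rw [suVal_mul, ← Matrix.mulVec_mulVec]
    exact ht _ (hs v hv)⟩

theorem carry_step (L M : Line) {r : V4} (hL : L.On r) (hM : M.On r) (hr0 : r ≠ 0) : Carry L M := by
  obtain ⟨L', eL, hL'⟩ := L.reparam hL hr0
  obtain ⟨M', eM, hM'⟩ := M.reparam hM hr0
  by_cases h0 : fH L'.x M'.y = 0 ∧ fH L'.y M'.y = 0
  · have hy : L'.On M'.y := L'.on_iff.2 ⟨fH_zero h0.1, fH_zero h0.2⟩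
    have hsame := L'.same M' (by rw [eM, ← eL]; exact L'.x_on) hy
    refine ⟨1, fun v hv => ?_⟩
    show M.On (suVal (1 : SU 4 K4 2) *ᵥ v)
    rw [show suVal (1 : SU 4 K4 2) = 1 from rfl, Matrix.one_mulVec, ← hM', ← hsame, hL']
    exact hv
  have hxy : fH L'.x M'.y = 0 := by rw [eL, ← eM]; exact M'.xy
  obtain ⟨μ, hμ⟩ : ∃ μ, μ = fH L'.y M'.y := ⟨_, rfl⟩
  have hμ0 : μ ≠ 0 := fun e => h0 ⟨hxy, hμ ▸ e⟩
  have hsc : ∀ a : K4, a ≠ 0 → ∃ l : K4, l ≠ 0 ∧ l ^ 2 * a = 1 := by decide +kernel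
  obtain ⟨l, hl0, hl⟩ := hsc μ hμ0
  have hzz : fH (L'.y + l • M'.y) (L'.y + l • M'.y) = 0 := by
    have h21 : fH M'.y L'.y = μ ^ 2 := by rw [hμ, ← fH_swap]
    simp only [fH_add_left, fH_add_right, fH_smul_left, fH_smul_right, L'.yy, M'.yy, ← hμ, h21, mul_zero, zero_add,
      add_zero]
    have : ∀ l μ : K4, l ^ 2 * μ = 1 → l * μ ^ 2 + l ^ 2 * μ = 0 := by decide +kernel
    exact this l μ hl
  refine ⟨tv hK4 hzz, fun v hv => ?_⟩
  obtain ⟨a, b, rfl⟩ := (hL' v).2 hv
  have hT : ∀ x, mv (tv hK4 hzz) x = x + fH x (L'.y + l • M'.y) • (L'.y + l • M'.y) := fun x => by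
    show suVal (tv hK4 hzz) *ᵥ x = _
    rw [suVal_tv hK4, T_apply hK4]
  have hx : fH L'.x (L'.y + l • M'.y) = 0 := by
    rw [fH_add_right, fH_smul_right, L'.xy, hxy, mul_zero, add_zero]
  have hy : fH L'.y (L'.y + l • M'.y) = 1 := by
    rw [fH_add_right, fH_smul_right, L'.yy, ← hμ, zero_add, hl]
  rw [← hM', hT, fH_add_left, fH_smul_left, fH_smul_left, hx, hy, mul_zero, mul_one, zero_add, smul_add]
  refine ⟨a, b * l, ?_⟩
  rw [eM, ← eL, ← smul_smul, show a • L'.x + b • L'.y + (b • L'.y + b • l • M'.y) =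
    a • L'.x + b • l • M'.y + (b • L'.y + b • L'.y) by abel, add_self4, add_zero]

/-- The lines form one orbit. -/
theorem carry (L M : Line) : Carry L M := by
  obtain ⟨s, hs, hs0, hsr⟩ := M.meet L.x
  by_cases h : ∃ a : K4, s = a • L.x
  · obtain ⟨a, rfl⟩ := h
    exact carry_step L M (L.on_smul a L.x_on) hs hs0
  · push Not at h
    let N := mkLine L.xx (M.herm hs hs) (fH_zero hsr) L.x_ne h
    exact (carry_step L N L.x_on N.x_on L.x_ne).trans (carry_step N M N.y_on hs hs0)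

/-- A unitary involution moves vectors along a totally isotropic space. -/
theorem invol_image (s : SU 4 K4 2) (h : s * s = 1) (u v : V4) : fH (mv s u + u) (mv s v + v) = 0 := by
  have hss : mv s (mv s u) = u := by
    show suVal s *ᵥ (suVal s *ᵥ u) = u
    rw [Matrix.mulVec_mulVec, ← suVal_mul, h]; exact Matrix.one_mulVec u
  have e : fH (mv s u) v = fH u (mv s v) := by
    conv_lhs => rw [← fH_mv s, hss]
  simp only [fH_add_left, fH_add_right, fH_mv, e]
  rw [show fH u v + fH u (mv s v) + (fH u (mv s v) + fH u v) =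
    (fH u v + fH u v) + (fH u (mv s v) + fH u (mv s v)) by abel, add_self hK4, add_self hK4, add_zero]

/-- Moved along a line, fixed on the line. -/
theorem fix_of_image (s : SU 4 K4 2) {L : Line} (h : s * s = 1) (hI : ∀ v, L.On (mv s v + v)) {u : V4}
    (hu : L.On u) : mv s u = u := by
  refine eq_of_add4 (eq_zero_of_h hK fun x => ?_)
  have hss : mv s (mv s u) = u := by
    show suVal s *ᵥ (suVal s *ᵥ u) = u
    rw [Matrix.mulVec_mulVec, ← suVal_mul, h]; exact Matrix.one_mulVec u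
  have e : fH (mv s u) x = fH u (mv s x) := by
    conv_lhs => rw [← fH_mv s, hss]
  show fH (mv s u + u) x = 0
  rw [fH_add_left, e, ← fH_add_right]
  exact L.herm hu (hI x)

/-- Fixed on a line, moved along it. -/
theorem image_of_fix (s : SU 4 K4 2) {L : Line} (hfix : ∀ u, L.On u → mv s u = u) (v : V4) : L.On (mv s v + v) := by
  have key : ∀ u, L.On u → fH (mv s v + v) u = 0 := fun u hu => by
    rw [fH_add_left]
    conv_lhs => arg 1; rw [← hfix u hu, fH_mv]
    exact add_self hK4 _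
  exact L.on_iff.2 ⟨key _ L.x_on, key _ L.y_on⟩

theorem exists_unit {r : V4} (hr0 : r ≠ 0) : ∃ y, fH r y = 1 ∧ fH y r = 1 := by
  obtain ⟨y, hy⟩ := exists_h_eq hK hr0 1
  exact ⟨y, hy, by rw [fH_swap r y, show fH r y = 1 from hy]; norm_num⟩

/-- Moved along one point, it is the transvection there. -/
theorem tv_of_point (s : SU 4 K4 2) (hs : s ≠ 1) {r : V4} (hr : fH r r = 0) (hr0 : r ≠ 0)
    (h : ∀ v, ∃ a : K4, mv s v = v + a • r) : s = tv hK4 hr := by
  obtain ⟨y, hy, hy'⟩ := exists_unit hr0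
  choose φ hφ using h
  have key : ∀ x, φ x + φ y ^ 2 * fH x r = 0 := fun x => by
    have e := fH_mv s x y
    rw [hφ, hφ] at e
    simp only [fH_add_left, fH_add_right, fH_smul_left, fH_smul_right, hr, hy, mul_zero, mul_one, add_zero] at e
    refine add_left_cancel (a := fH x y) ?_
    rw [add_zero]
    conv_rhs => rw [← e]
    abel
  have hsum : ∀ a b : K4, a + b = 0 → a = b := by decide +kernel
  have hk := hsum _ _ (key y)
  rw [hy', mul_one] at hk
  have hcase : ∀ k : K4, k = k ^ 2 → k = 0 ∨ k = 1 := by decide +kernel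
  rcases hcase _ hk with e | e
  · exfalso
    refine hs (suVal_ext (Matrix.ext_iff_mulVec.2 fun x => ?_))
    show mv s x = (1 : Matrix (Fin 4) (Fin 4) K4) *ᵥ x
    have hz : φ x = 0 := by
      have := key x
      rwa [e, zero_pow two_ne_zero, zero_mul, add_zero] at this
    rw [hφ, hz, zero_smul, add_zero, Matrix.one_mulVec]
  · refine suVal_ext (Matrix.ext_iff_mulVec.2 fun x => ?_)
    show mv s x = _
    rw [suVal_tv hK4, T_apply hK4, hφ, hsum _ _ (key x), e, one_pow, one_mul]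

theorem mv_tv {r : V4} (hr : fH r r = 0) (v : V4) : mv (tv hK4 hr) v = v + fH v r • r := by
  show suVal (tv hK4 hr) *ᵥ v = _
  rw [suVal_tv hK4, T_apply hK4]

theorem tv_fix_iff {r : V4} (hr : fH r r = 0) (hr0 : r ≠ 0) (v : V4) : mv (tv hK4 hr) v = v ↔ fH v r = 0 := by
  rw [mv_tv, add_eq_left, smul_eq_zero, or_iff_left hr0]

end Cfsg.Agent.Fus.U62Four
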