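/-
The centraliser of the four-group inside the centraliser of the centre acts on the four-dimensional space orthogonal
to the first vector modulo that vector as `U₄(2)`.
-/
import Cfsg.Agent.Lib.Fus.U62Four.Base
import Cfsg.Agent.Lib.Fus.U62Four.Geom
import Cfsg.Agent.Lib.Fus.U62Rec.Defs
import Cfsg.Agent.Lib.Spor.Cos.Fi22Aut.Image

set_option autoImplicit false
set_option maxRecDepth 100000
set_option linter.unusedSectionVars false
set_option linter.style.haveILetI false

open Cfsg Cfsg.Agent.Classical Cfsg.Agent.Spor.LargeFischer Matrix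
open Cfsg.Agent.Spor.USixTwo (K4 vecOf)
open Cfsg.Agent.Spor.U62U43 (cover62)
open Cfsg.Agent.Fus.LargeFischerScalar Cfsg.Agent.Fus.LargeFischerStab
open Cfsg.Agent.Fus.U62Rec (Q4)

namespace Cfsg.Agent.Fus.U62Four

/-- An orthonormal basis modulo the first vector. -/
def bC : ℕ → List ℕ
  | 0 => [1, 64, 256, 1024]
  | 1 => [1, 64, 256, 1024]
  | _ => [4, 64, 256, 1024]

/-- The basis is right. -/
def chkB (k : ℕ) : Bool :=
  Nat.beq (bC k).length 4 &&
    (List.range 4).all (fun i => Nat.beq (hermC ((bC k).getD i 0) (dat k).v1) 0 && (List.range 4).all fun j =>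
      Nat.beq (hermC ((bC k).getD i 0) ((bC k).getD j 0)) (if Nat.beq i j then 1 else 0)) &&
    (List.range 4096).all (fun c => !(Nat.beq (hermC c (dat k).v1) 0 && (bC k).all fun b => Nat.beq (hermC c b) 0) ||
      (mulsC k (dat k).v1).contains c) &&
    (List.range 4096).any (fun c => Nat.beq (hermC c (dat k).v1) 1) && !Nat.beq (dat k).v1 0

theorem b_ok : ∀ k < 3, chkB k = true := by decide +kernel

/-- A basis vector. -/
def bV (k : ℕ) (i : Fin 4) : Fin 6 → K4 := vecOf ((bC k).getD i.1 0)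

/-- The coordinates. -/
def gam (k : ℕ) (w : Fin 6 → K4) : V4 := fun i => hermForm 6 K4 2 w (bV k i)

/-- Orthogonal to the first vector. -/
def Pp (k : ℕ) (w : Fin 6 → K4) : Prop := hermForm 6 K4 2 w (rep k 1) = 0

/-- The lift of coordinates. -/
def up (k : ℕ) (u : V4) : Fin 6 → K4 := ∑ i, u i • bV k i

variable {k : ℕ}

theorem h6_add_left (u u' v : Fin 6 → K4) :
    hermForm 6 K4 2 (u + u') v = hermForm 6 K4 2 u v + hermForm 6 K4 2 u' v := hermForm_add_left 6 u u' v

theorem gam_add (u w : Fin 6 → K4) : gam k (u + w) = gam k u + gam k w := funext fun _ => h6_add_left _ _ _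

theorem gam_smul (a : K4) (w : Fin 6 → K4) : gam k (a • w) = a • gam k w :=
  funext fun _ => hermForm_smul_left 6 a _ _

theorem gam_zero : gam k (0 : Fin 6 → K4) = 0 := funext fun _ => by simp [gam, hermForm]

theorem pp_add {u w : Fin 6 → K4} (hu : Pp k u) (hw : Pp k w) : Pp k (u + w) := by
  rw [Pp, h6_add_left, hu, hw, add_zero]

theorem pp_smul (a : K4) {w : Fin 6 → K4} (hw : Pp k w) : Pp k (a • w) := by
  rw [Pp, herm_smul, hw, mul_zero]

theorem b_facts (hk : k < 3) : (∀ i, Pp k (bV k i) ∧ ∀ j, hermForm 6 K4 2 (bV k i) (bV k j) = if i = j then 1 else 0) ∧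
    (∀ w, Pp k w → gam k w = 0 → ∃ a : K4, w = a • rep k 1) ∧ (∃ w, hermForm 6 K4 2 w (rep k 1) = 1) ∧
    rep k 1 ≠ 0 := by
  have h := b_ok k hk
  simp only [chkB, Bool.and_eq_true, List.all_eq_true, List.any_eq_true, List.mem_range, Nat.beq_eq,
    Bool.or_eq_true, Bool.not_eq_true', List.contains_iff_mem, Bool.and_eq_false_iff, List.all_eq_false] at h
  obtain ⟨⟨⟨⟨hlen, horth⟩, hker⟩, ⟨c1, hc1, hu⟩⟩, hv0⟩ := h
  have hv : (dat k).v1 < 4096 := Spor.LargeFischer.rd_lt _ _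
  have hr : rep k 1 = vecOf (dat k).v1 := by rw [rep, if_pos rfl]
  refine ⟨fun i => ⟨?_, fun j => ?_⟩, fun w hp hg => ?_, ⟨vecOf c1, ?_⟩, fun e => ?_⟩
  · rw [Pp, hr, bV, hermC_zero]; exact (horth i.1 i.2).1
  · rw [bV, bV, hermC_sound, (horth i.1 i.2).2 j.1 j.2]
    by_cases e : i = j
    · subst e
      rw [if_pos rfl, if_pos rfl]; rfl
    · rw [if_neg e, if_neg fun h' => e (Fin.ext h')]; rfl
  · have hmem : enc6 w ∈ mulsC k (dat k).v1 := by
      refine (hker _ (enc6_lt w)).resolve_left ?_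
      rintro (h0 | ⟨b, hb, hne⟩)
      · rw [Bool.eq_false_iff, ne_eq, Nat.beq_eq] at h0
        refine h0 ((hermC_zero _ _).1 ?_)
        rw [vecOf_enc6, ← hr]; exact hp
      · obtain ⟨i, hi, rfl⟩ := List.getElem_of_mem hb
        refine hne ((hermC_zero _ _).1 ?_)
        rw [vecOf_enc6]
        have := congrFun hg ⟨i, hlen ▸ hi⟩
        rwa [gam, bV, List.getD_eq_getElem _ _ hi] at this
    obtain ⟨a, ha⟩ := mulsC_cases hk hv hmem
    exact ⟨a, by rw [hr, ← ha, vecOf_enc6]⟩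
  · rw [hr, hermC_sound, hu]; rfl
  · rw [hr, ← vecOf_zero] at e
    have := vecOf_inj hv (by norm_num) e
    rw [this] at hv0
    exact absurd hv0 (by simp)

theorem pp_up (hk : k < 3) (u : V4) : Pp k (up k u) := by
  have h : ∀ i, hermForm 6 K4 2 (bV k i) (rep k 1) = 0 := fun i => ((b_facts hk).1 i).1
  simp only [Pp, up, Fin.sum_univ_four, h6_add_left, herm_smul, h, mul_zero, add_zero]

theorem gam_up (hk : k < 3) (u : V4) : gam k (up k u) = u := by
  funext j
  have h : ∀ i, hermForm 6 K4 2 (bV k i) (bV k j) = if i = j then 1 else 0 := fun i => ((b_facts hk).1 i).2 j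
  simp only [gam, up, Fin.sum_univ_four, h6_add_left, herm_smul, h]
  fin_cases j <;> simp

theorem pp_self (hk : k < 3) : Pp k (rep k 1) := by
  rcases lab_facts hk (rep k 1) with ⟨e, -⟩ | ⟨-, -, e⟩
  · rw [(rep_first k hk).1] at e; exact absurd e one_ne_zero
  · exact e

theorem gam_v0 (hk : k < 3) (a : K4) : gam k (a • rep k 1) = 0 := by
  funext i
  show hermForm 6 K4 2 (a • rep k 1) (bV k i) = 0
  rw [herm_smul, herm_swap (bV k i) (rep k 1), ((b_facts hk).1 i).1]
  simp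

theorem decomp (hk : k < 3) {w : Fin 6 → K4} (hw : Pp k w) : ∃ a : K4, w = up k (gam k w) + a • rep k 1 := by
  obtain ⟨a, ha⟩ := (b_facts hk).2.1 (w + up k (gam k w)) (pp_add hw (pp_up hk _))
    (by rw [gam_add, gam_up hk, add_self4])
  exact ⟨a, by rw [← ha, add_left_comm, neg_self6, add_zero]⟩

theorem herm_gam (hk : k < 3) {w w' : Fin 6 → K4} (hw : Pp k w) (hw' : Pp k w') :
    hermForm 6 K4 2 w w' = fH (gam k w) (gam k w') := by
  obtain ⟨a, ha⟩ := decomp hk hw
  have hb : ∀ i, hermForm 6 K4 2 (bV k i) w' = gam k w' i ^ 2 := fun i => herm_swap w' (bV k i)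
  have h0 : hermForm 6 K4 2 (rep k 1) w' = 0 := by rw [herm_swap w' (rep k 1), hw']; simp
  conv_lhs => rw [ha]
  simp only [up, Fin.sum_univ_four, h6_add_left, herm_smul, hb, h0, mul_zero, add_zero]
  simp only [fH, hermForm, Fin.sum_univ_four]

theorem pp_inO {w : Fin 6 → K4} (h : InO k (rep k 1) w) : Pp k w := by
  rw [Pp, herm_swap (rep k 1) w, h.2.1]; simp

section

variable {G : Type*} [Group G] [Finite G] {z : G} {Q : Subgroup (Subgroup.centralizer ({z} : Set G))}
  [hQn : Q.Normal] (m : Model z Q)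

theorem act_scalar {g : Subgroup.centralizer ({z} : Set G)} (hg : g ∈ m.M) (a : K4) (v : Fin 6 → K4) :
    m.act g (a • v) = a • m.act g v := by
  rw [show g = ((⟨g, hg⟩ : m.M) : Subgroup.centralizer ({z} : Set G)) from rfl, m.lin_act, m.lin_act, smul_scalar]

theorem lab_scalar {a : K4} (ha : a ≠ 0) (v : Fin 6 → K4) : labV m.k (a • v) = labV m.k v := by
  rcases k4_cases a with rfl | rfl | rfl | rfl
  · exact absurd rfl ha
  · rw [one_smul]
  · exact lab_om m v
  · rw [← smul_smul, lab_om m, lab_om m]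

/-- Commutation in the extraspecial group. -/
theorem comm_iff (x y : Q) (hy : hermForm 6 K4 2 (m.rep y) (m.rep y) = 0) :
    x * y = y * x ↔ hermForm 6 K4 2 (m.rep x) (m.rep y) + hermForm 6 K4 2 (m.rep x) (m.rep y) ^ 2 = 0 := by
  have y2 := (m.herm_zero y).1 hy
  have key : x * y = y * x ↔ (x * y) * (x * y) = x * x := by
    constructor
    · intro e
      calc x * y * (x * y) = x * (y * x) * y := by group
        _ = x * (x * y) * y := by rw [e]
        _ = x * x * (y * y) := by group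
        _ = x * x := by rw [y2, mul_one]
    · intro e
      have e1 : y * x * y = x := mul_left_cancel (a := x) (by rw [← mul_assoc, ← mul_assoc]; rw [← e]; group)
      calc x * y = y * x * y * y := by rw [e1]
        _ = y * x := by rw [mul_assoc, y2, mul_one]
  have hcases : ∀ q : Q, gv (q * q) = 1 ∨ gv (q * q) = z := fun q => m.ext.sq _ (mem_QG.2 ⟨q, rfl⟩)
  have hval : ∀ p q : Q, p * p = q * q ↔ (p * p = 1 ↔ q * q = 1) := fun p q => by
    constructor
    · intro e; rw [e]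
    · intro e
      have he : ∀ r : Q, r * r = 1 ↔ gv (r * r) = 1 := fun r =>
        ⟨fun h => by rw [h]; rfl, fun h => Subtype.ext (Subtype.ext h)⟩
      rw [he, he] at e
      refine Subtype.ext (Subtype.ext ?_)
      show gv (p * p) = gv (q * q)
      rcases hcases p with a | a
      · rw [a, e.1 a]
      · rcases hcases q with b | b
        · rw [b, e.2 b]
        · rw [a, b]
  rw [key, hval, ← m.herm_zero, ← m.herm_zero, m.rep_mul, herm_add, hy, add_zero]
  rcases herm_bit (m.rep x) with e | e <;> rw [e] <;>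
    generalize hermForm 6 K4 2 (m.rep x) (m.rep y) = a <;> revert a <;> decide +kernel

/-- The linear stabiliser of the first vector. -/
def Kst : Subgroup (Subgroup.centralizer ({z} : Set G)) := stabH m (rep m.k 1) ⊓ m.M

theorem mem_Kst {g : Subgroup.centralizer ({z} : Set G)} :
    g ∈ Kst m ↔ m.act g (rep m.k 1) = rep m.k 1 ∧ g ∈ m.M := Iff.rfl

theorem pp_act {g : Subgroup.centralizer ({z} : Set G)} (hg : g ∈ Kst m) {w : Fin 6 → K4} (hw : Pp m.k w) :
    Pp m.k (m.act g w) := by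
  have h := herm_of_mem m hg.2 w (rep m.k 1)
  rw [hg.1] at h
  rw [Pp, h]; exact hw

/-- The matrix of an element. -/
def M4 (g : Subgroup.centralizer ({z} : Set G)) : Matrix (Fin 4) (Fin 4) K4 :=
  fun i j => gam m.k (m.act g (bV m.k j)) i

theorem gam_act {g : Subgroup.centralizer ({z} : Set G)} (hg : g ∈ Kst m) {w : Fin 6 → K4} (hw : Pp m.k w) :
    gam m.k (m.act g w) = M4 m g *ᵥ gam m.k w := by
  obtain ⟨a, ha⟩ := decomp m.hk hw
  have hv : m.act g (rep m.k 1) = rep m.k 1 := hg.1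
  conv_lhs => rw [ha, m.act_add, act_scalar m hg.2 a, hv, gam_add, gam_v0 m.hk, add_zero]
  simp only [up, Fin.sum_univ_four, m.act_add, act_scalar m hg.2, gam_add, gam_smul,
    add_zero]
  funext i
  simp only [Matrix.mulVec, dotProduct, Fin.sum_univ_four, M4, Pi.add_apply, Pi.smul_apply, smul_eq_mul, mul_comm]

theorem M4_mul {g h : Subgroup.centralizer ({z} : Set G)} (hg : g ∈ Kst m) (hh : h ∈ Kst m) :
    M4 m (g * h) = M4 m g * M4 m h := by
  ext i j
  show gam m.k (m.act (g * h) (bV m.k j)) i = _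
  rw [m.act_mul, gam_act m hg (pp_act m hh ((b_facts m.hk).1 j).1)]
  rfl

theorem M4_one : M4 m 1 = 1 := by
  ext i j
  show hermForm 6 K4 2 (m.act 1 (bV m.k j)) (bV m.k i) = _
  rw [m.act_one, ((b_facts m.hk).1 j).2 i, Matrix.one_apply]
  exact if_congr eq_comm rfl rfl

theorem M4_herm {g : Subgroup.centralizer ({z} : Set G)} (hg : g ∈ Kst m) (u v : V4) :
    fH (M4 m g *ᵥ u) (M4 m g *ᵥ v) = fH u v := by
  have hk := m.hk
  rw [← gam_up hk u, ← gam_up hk v, ← gam_act m hg (pp_up hk u), ← gam_act m hg (pp_up hk v),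
    ← herm_gam hk (pp_act m hg (pp_up hk u)) (pp_act m hg (pp_up hk v)), herm_of_mem m hg.2,
    ← herm_gam hk (pp_up hk u) (pp_up hk v)]

theorem det_ne {g : Subgroup.centralizer ({z} : Set G)} (hg : g ∈ Kst m) : (M4 m g).det ≠ 0 := fun e => by
  have h := congrArg Matrix.det (M4_mul m hg (inv_mem hg))
  rw [mul_inv_cancel, M4_one, Matrix.det_one, Matrix.det_mul, e, zero_mul] at h
  exact one_ne_zero h

theorem scal_facts : ∀ d : K4, d ≠ 0 → (d⁻¹) ^ 4 * d = 1 ∧ d⁻¹ * (d⁻¹) ^ 2 = 1 := by decide +kernel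

theorem rho_det {g : Subgroup.centralizer ({z} : Set G)} (hg : g ∈ Kst m) :
    (((M4 m g).det)⁻¹ • M4 m g).det = 1 := by
  rw [Matrix.det_smul, Fintype.card_fin]
  exact (scal_facts _ (det_ne m hg)).1

theorem rho_herm {g : Subgroup.centralizer ({z} : Set G)} (hg : g ∈ Kst m) (u v : V4) :
    fH ((((M4 m g).det)⁻¹ • M4 m g) *ᵥ u) ((((M4 m g).det)⁻¹ • M4 m g) *ᵥ v) = fH u v := by
  rw [Matrix.smul_mulVec, Matrix.smul_mulVec, fH_smul_left, fH_smul_right, ← mul_assoc,
    (scal_facts _ (det_ne m hg)).2, one_mul, M4_herm m hg]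

theorem rho_mul {g h : Subgroup.centralizer ({z} : Set G)} (hg : g ∈ Kst m) (hh : h ∈ Kst m) :
    ((M4 m (g * h)).det)⁻¹ • M4 m (g * h) = (((M4 m g).det)⁻¹ • M4 m g) * (((M4 m h).det)⁻¹ • M4 m h) := by
  rw [M4_mul m hg hh, Matrix.det_mul, Matrix.smul_mul, Matrix.mul_smul, smul_smul, mul_inv]

/-- One value of the image. -/
noncomputable def rhoEl (g : ↥(Kst m)) : SU 4 K4 2 :=
  ⟨⟨((M4 m g.1).det)⁻¹ • M4 m g.1, rho_det m g.2⟩, rho_herm m g.2⟩

theorem suVal_rhoEl (g : ↥(Kst m)) : suVal (rhoEl m g) = ((M4 m g.1).det)⁻¹ • M4 m g.1 := rfl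

theorem rhoEl_mul (g h : ↥(Kst m)) : rhoEl m (g * h) = rhoEl m g * rhoEl m h := by
  have e := rho_mul m g.2 h.2
  have e2 : ((g * h : ↥(Kst m)) : Subgroup.centralizer ({z} : Set G)) = g.1 * h.1 := rfl
  rw [← e2, ← suVal_rhoEl, ← suVal_rhoEl, ← suVal_rhoEl, ← suVal_mul] at e
  exact suVal_ext e

/-- The image in the special unitary group. -/
noncomputable def rho : ↥(Kst m) →* SU 4 K4 2 := MonoidHom.mk' (rhoEl m) (rhoEl_mul m)

theorem rho_val (g : ↥(Kst m)) : suVal (rho m g) = ((M4 m g.1).det)⁻¹ • M4 m g.1 := by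
  rw [rho, MonoidHom.mk'_apply]
  exact suVal_rhoEl m g

theorem gam_act_rho (g : ↥(Kst m)) {w : Fin 6 → K4} (hw : Pp m.k w) :
    gam m.k (m.act g.1 w) = (M4 m g.1).det • mv (rho m g) (gam m.k w) := by
  show _ = _ • (suVal (rho m g) *ᵥ _)
  rw [rho_val, Matrix.smul_mulVec, smul_inv_smul₀ (det_ne m g.2), gam_act m g.2 hw]

theorem det_invol {g : ↥(Kst m)} (h : g * g = 1) : (M4 m g.1).det = 1 := by
  have h1 := congrArg Matrix.det (M4_mul m g.2 g.2)
  rw [show g.1 * g.1 = 1 from congrArg Subtype.val h, M4_one, Matrix.det_one, Matrix.det_mul] at h1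
  have : ∀ d : K4, 1 = d * d → d = 1 := by decide +kernel
  exact this _ h1

theorem gam_act_invol {g : ↥(Kst m)} (h : g * g = 1) {w : Fin 6 → K4} (hw : Pp m.k w) :
    gam m.k (m.act g.1 w) = mv (rho m g) (gam m.k w) := by
  rw [gam_act_rho m g hw, det_invol m h, one_smul]

/-- Nothing moves a member above the vector along it. -/
theorem inO_exact {w : Fin 6 → K4} (h : InO m.k (rep m.k 1) w) {a : K4}
    (h' : labV m.k (w + a • rep m.k 1) = 1) : a = 0 := by
  by_contra ha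
  have := ((inO_iff m _ _).1 h).2.2 a ha
  omega

theorem fix_inO {g : Subgroup.centralizer ({z} : Set G)} {w : Fin 6 → K4} {c : K4}
    (hc : c ≠ 0) (hg : g ∈ Kst m) (hw : InO m.k (rep m.k 1) w) (e : gam m.k (m.act g w) = c • gam m.k w) :
    m.act g w = c • w := by
  have hk := m.hk
  obtain ⟨a, ha⟩ := (b_facts hk).2.1 (m.act g w + c • w) (pp_add (pp_act m hg (pp_inO hw)) (pp_smul c (pp_inO hw)))
    (by rw [gam_add, gam_smul, e, add_self4])
  have he : m.act g w = c • (w + (c⁻¹ * a) • rep m.k 1) := by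
    rw [smul_add, smul_smul, ← mul_assoc, mul_inv_cancel₀ hc, one_mul, ← ha, add_left_comm, neg_self6, add_zero]
  have h1 : labV m.k (w + (c⁻¹ * a) • rep m.k 1) = 1 := by
    rw [← lab_scalar m hc, ← he, m.lab_act]; exact hw.1
  rw [he, inO_exact m hw h1, zero_smul, add_zero]

theorem rho_scalar (hF : IsOfLargeFischerTypeAt z Q) (g : ↥(Kst m)) {l : K4}
    (h : suVal (rho m g) = l • (1 : Matrix (Fin 4) (Fin 4) K4)) : g.1 ∈ Q := by
  have hk := m.hk
  have hl : l ≠ 0 := by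
    intro e
    have := (rho m g).1.2
    rw [show (rho m g).1.1 = suVal (rho m g) from rfl, h, e, zero_smul, Matrix.det_zero] at this
    exact zero_ne_one this
  set c := (M4 m g.1).det * l with hc
  have hc0 : c ≠ 0 := mul_ne_zero (det_ne m g.2) hl
  let gs : stabH m (rep m.k 1) := ⟨g.1, g.2.1⟩
  have hlp : ∀ i, m.act g.1 (lp m.k i) = c • lp m.k i := fun i => by
    have hio := ((lp_facts hk).1 i).2
    refine fix_inO m hc0 g.2 hio ?_
    rw [gam_act_rho m g (pp_inO hio)]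
    show _ • (suVal (rho m g) *ᵥ _) = _
    rw [h, Matrix.smul_mulVec, Matrix.one_mulVec, smul_smul, hc]
  have hker : gs ∈ (lineHom m).ker := MonoidHom.mem_ker.2 (Subtype.ext (Equiv.ext fun i =>
    onL_unique hk (img_spec m gs i (onL_self _ i)) ⟨c, hc0, hlp i⟩))
  rw [lineHom_ker m hF, Subgroup.mem_subgroupOf] at hker
  exact hker

theorem rho_Q (g : ↥(Kst m)) (hg : g.1 ∈ Q) : rho m g = 1 := by
  have h1 : M4 m g.1 = 1 := by
    ext i j
    show hermForm 6 K4 2 (m.act g.1 (bV m.k j)) (bV m.k i) = _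
    rw [(m.act_ker _).2 hg, ((b_facts m.hk).1 j).2 i, Matrix.one_apply]
    exact if_congr eq_comm rfl rfl
  refine suVal_ext ?_
  rw [rho_val, h1, Matrix.det_one, inv_one, one_smul]; rfl

/-- The map onto `U₄(2)`. -/
noncomputable def pi0 : ↥(Kst m) →* Q4 := (suToPSU 4 K4 2).comp (rho m)

theorem pi0_eq_one (hF : IsOfLargeFischerTypeAt z Q) (g : ↥(Kst m)) : pi0 m g = 1 ↔ g.1 ∈ Q := by
  constructor
  · intro h
    obtain ⟨l, hl⟩ := (PSUAut.pi_eq_one_iff hK).1 h
    exact rho_scalar m hF g hl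
  · intro h
    show suToPSU 4 K4 2 (rho m g) = 1
    rw [rho_Q m g h, map_one]

theorem pi0_surj (hF : IsOfLargeFischerTypeAt z Q) : Function.Surjective (pi0 m) := by
  rw [← MonoidHom.range_eq_top]
  refine Subgroup.eq_top_of_le_card _ ?_
  rw [Spor.Cos.Fi22Aut.card_psu hK4]
  have hker : Nat.card (pi0 m).ker = Nat.card Q := by
    have hle : Q ≤ Kst m := le_inf (q_le m _) m.M_le
    rw [← Nat.card_congr (Subgroup.subgroupOfEquivOfLe hle).toEquiv]
    congr 2
    ext g
    rw [MonoidHom.mem_ker, pi0_eq_one m hF, Subgroup.mem_subgroupOf]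
  have h1 := (pi0 m).ker.card_mul_index
  rw [Subgroup.index_ker, hker] at h1
  have hidx : Nat.card (stabH m (rep m.k 1)) ≤ 2 * Nat.card (Kst m) := by
    have h2 := (m.M.subgroupOf (stabH m (rep m.k 1))).card_mul_index
    have hd : (m.M.subgroupOf (stabH m (rep m.k 1))).index ∣ 2 := by
      rw [← m.M_index]
      haveI := m.M_normal
      exact Subgroup.relIndex_dvd_index_of_normal m.M _
    have he : Nat.card ↥(m.M.subgroupOf (stabH m (rep m.k 1))) = Nat.card (Kst m) := by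
      rw [← Subgroup.inf_subgroupOf_right, Nat.card_congr (Subgroup.subgroupOfEquivOfLe inf_le_right).toEquiv,
        inf_comm]
      rfl
    rw [he] at h2
    rw [← h2, mul_comm]
    exact Nat.mul_le_mul_right _ (Nat.le_of_dvd two_pos hd)
  rw [card_stabH m] at hidx
  have hq : 0 < Nat.card Q := Nat.card_pos
  refine Nat.le_of_mul_le_mul_left ?_ hq
  rw [h1]
  linarith

variable {m} (C : Ctx m)

/-- The centraliser of the four-group in the centraliser of the centre. -/
def KE : Subgroup (Subgroup.centralizer ({z} : Set G)) :=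
  Subgroup.centralizer {(C.e1 : Subgroup.centralizer ({z} : Set G)), (C.e2 : Subgroup.centralizer ({z} : Set G))}

theorem mem_KE {g : Subgroup.centralizer ({z} : Set G)} :
    g ∈ KE C ↔ (g : G) * gv C.e1 = gv C.e1 * (g : G) ∧ (g : G) * gv C.e2 = gv C.e2 * (g : G) := by
  rw [KE, Subgroup.mem_centralizer_iff]
  constructor
  · intro h
    exact ⟨(congrArg Subtype.val (h _ (Set.mem_insert _ _))).symm,
      (congrArg Subtype.val (h _ (Set.mem_insert_of_mem _ rfl))).symm⟩
  · rintro ⟨h1, h2⟩ x (rfl | rfl)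
    · exact Subtype.ext h1.symm
    · exact Subtype.ext h2.symm

theorem KE_le (hF : IsOfLargeFischerTypeAt z Q) : KE C ≤ Kst m := by
  intro g hg
  obtain ⟨h1, h2⟩ := (mem_KE C).1 hg
  have hfix : ∀ x : Q, (g : G) * gv x = gv x * (g : G) → m.act g (m.rep x) = m.rep x := fun x hx => by
    rw [m.act_rep]
    exact congrArg m.rep (Subtype.ext (Subtype.ext (mul_inv_eq_iff_eq_mul.2 hx)))
  have a1 := hfix _ h1
  have a2 := hfix _ h2
  rw [C.rep1] at a1
  rw [C.rep2] at a2
  refine ⟨a1, by_contra fun hM => ?_⟩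
  rw [LargeFischerOuter.conj_of_outer m hF hM (rep m.k 1), a1] at a2
  have h0 : (ω * ω + ω) • rep m.k 1 = 0 := by rw [add_smul, a2, neg_self6]
  exact (b_facts m.hk).2.2.2 ((smul_eq_zero.1 h0).resolve_left (by decide +kernel))

theorem q_mem_KE (q : Q) : (q : Subgroup.centralizer ({z} : Set G)) ∈ KE C ↔ Pp m.k (m.rep q) := by
  have hv := pp_self m.hk
  have h1 : hermForm 6 K4 2 (m.rep C.e1) (m.rep C.e1) = 0 := by rw [C.rep1]; exact hv
  have h2 : hermForm 6 K4 2 (m.rep C.e2) (m.rep C.e2) = 0 := by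
    rw [C.rep2, herm_smul, LargeFischerStab.herm_smul_right, hv]; simp
  have e : ∀ y : Q, (gv q * gv y = gv y * gv q ↔ q * y = y * q) := fun y =>
    ⟨fun h => Subtype.ext (Subtype.ext h), fun h => congrArg gv h⟩
  have c1 := comm_iff m q C.e1 h1
  have c2 := comm_iff m q C.e2 h2
  rw [C.rep1] at c1
  rw [C.rep2, LargeFischerStab.herm_smul_right] at c2
  rw [mem_KE, e, e, c1, c2]
  exact ⟨fun h => LargeFischerAbelian.trace_rot _ h.1 h.2, fun h => by
    rw [Pp] at h
    rw [h]; simp⟩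

theorem e1_mem : (C.e1 : Subgroup.centralizer ({z} : Set G)) ∈ KE C := by
  rw [q_mem_KE, C.rep1]; exact pp_self m.hk

theorem e2_mem : (C.e2 : Subgroup.centralizer ({z} : Set G)) ∈ KE C := by
  rw [q_mem_KE, C.rep2]; exact pp_smul _ (pp_self m.hk)

/-- Everything stabilising the vector linearly is the centraliser times the extraspecial group. -/
theorem exists_adjust (g : Subgroup.centralizer ({z} : Set G)) (hg : g ∈ Kst m) :
    ∃ q : Q, (q : Subgroup.centralizer ({z} : Set G)) * g ∈ KE C := by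
  classical
  have hv := pp_self m.hk
  obtain ⟨w1, hw1⟩ := (b_facts m.hk).2.2.1
  have hfix : ∀ x : Q, m.rep x = rep m.k 1 ∨ m.rep x = ω • rep m.k 1 →
      (g : G) * gv x * (g : G)⁻¹ = gv x ∨ (g : G) * gv x * (g : G)⁻¹ = gv x * z := fun x hx =>
    LargeFischerAbelian.rep_conj_eq m (by
      rcases hx with e | e <;> rw [e]
      · exact hg.1
      · rw [act_scalar m hg.2, hg.1])
  have hq : ∀ (q x : Q), gv q * gv x * (gv q)⁻¹ = gv x ∨ gv q * gv x * (gv q)⁻¹ = gv x * z := fun q x =>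
    LargeFischerAbelian.rep_conj_eq m (c := (q : Subgroup.centralizer ({z} : Set G))) ((m.act_ker _).2 q.2 _)
  have hsel : ∀ s t : Bool, ∃ a : K4, (a + a ^ 2 = 0 ↔ s = true) ∧ (ω ^ 2 * a + (ω ^ 2 * a) ^ 2 = 0 ↔ t = true) := by
    decide +kernel
  obtain ⟨a, ha1, ha2⟩ := hsel (decide ((g : G) * gv C.e1 * (g : G)⁻¹ = gv C.e1))
    (decide ((g : G) * gv C.e2 * (g : G)⁻¹ = gv C.e2))
  obtain ⟨q, hq'⟩ := m.rep_surj (a • w1)
  have hh : hermForm 6 K4 2 (m.rep q) (rep m.k 1) = a := by rw [hq', herm_smul, hw1, mul_one]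
  have c1 := comm_iff m q C.e1 (by rw [C.rep1]; exact hv)
  have c2 := comm_iff m q C.e2 (by rw [C.rep2, herm_smul, LargeFischerStab.herm_smul_right, hv]; simp)
  rw [C.rep1, hh, ha1, decide_eq_true_eq] at c1
  rw [C.rep2, LargeFischerStab.herm_smul_right, hh, ha2, decide_eq_true_eq] at c2
  have hne : ∀ x : Q, gv x * z ≠ gv x := fun x e => m.ext.ne (mul_eq_left.1 e)
  have main : ∀ x : Q, (m.rep x = rep m.k 1 ∨ m.rep x = ω • rep m.k 1) →
      (q * x = x * q ↔ (g : G) * gv x * (g : G)⁻¹ = gv x) → gv q * (g : G) * gv x = gv x * (gv q * (g : G)) := by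
    intro x hx hiff
    have hzq : gv q * z = z * gv q := Subgroup.mem_centralizer_singleton_iff.1 (q : Subgroup.centralizer ({z} : Set G)).2
    refine mul_inv_eq_iff_eq_mul.1 ?_
    rw [show gv q * (g : G) * gv x * (gv q * (g : G))⁻¹ = gv q * ((g : G) * gv x * (g : G)⁻¹) * (gv q)⁻¹ by group]
    have hqq : q * x = x * q ↔ gv q * gv x * (gv q)⁻¹ = gv x :=
      ⟨fun h => mul_inv_eq_iff_eq_mul.2 (congrArg gv h),
        fun h => Subtype.ext (Subtype.ext (mul_inv_eq_iff_eq_mul.1 h))⟩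
    rcases hfix x hx with e | e
    · rw [e]; exact hqq.1 (hiff.2 e)
    · have hn : gv q * gv x * (gv q)⁻¹ ≠ gv x := fun h => hne x (e.symm.trans (hiff.1 (hqq.2 h)))
      rw [e, show gv q * (gv x * z) * (gv q)⁻¹ = gv q * gv x * (z * (gv q)⁻¹) by group,
        show z * (gv q)⁻¹ = (gv q)⁻¹ * z by rw [mul_inv_eq_iff_eq_mul, mul_assoc, ← hzq, inv_mul_cancel_left],
        ← mul_assoc, (hq q x).resolve_left hn, mul_assoc, m.ext.zz, mul_one]
  exact ⟨q, (mem_KE C).2 ⟨main _ (Or.inl C.rep1) c1, main _ (Or.inr C.rep2) c2⟩⟩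

/-- The map on the centraliser. -/
noncomputable def piE (hF : IsOfLargeFischerTypeAt z Q) : ↥(KE C) →* Q4 :=
  (pi0 m).comp (Subgroup.inclusion (KE_le C hF))

theorem piE_eq_one (hF : IsOfLargeFischerTypeAt z Q) (g : ↥(KE C)) : piE C hF g = 1 ↔ g.1 ∈ Q :=
  pi0_eq_one m hF _

theorem piE_surj (hF : IsOfLargeFischerTypeAt z Q) : Function.Surjective (piE C hF) := by
  intro e
  obtain ⟨g, rfl⟩ := pi0_surj m hF e
  obtain ⟨q, hq⟩ := exists_adjust C g.1 g.2
  refine ⟨⟨_, hq⟩, ?_⟩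
  have hqK : (q : Subgroup.centralizer ({z} : Set G)) ∈ Kst m := le_inf (q_le m _) m.M_le q.2
  show pi0 m (⟨_, hqK⟩ * g) = pi0 m g
  rw [map_mul, (pi0_eq_one m hF _).2 q.2, one_mul]

/-- A line is carried to any other by the centraliser. -/
theorem exists_carry (hF : IsOfLargeFischerTypeAt z Q) (L M : Line) :
    ∃ g : ↥(Kst m), g.1 ∈ KE C ∧ ∀ w, Pp m.k w → L.On (gam m.k w) → M.On (gam m.k (m.act g.1 w)) := by
  obtain ⟨s, hs⟩ := carry L M
  obtain ⟨g, hg⟩ := piE_surj C hF (suToPSU 4 K4 2 s)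
  obtain ⟨l, hl⟩ := (PSUAut.pi_eq_iff hK).1 (show suToPSU 4 K4 2 (rho m ⟨g.1, KE_le C hF g.2⟩) = _ from hg)
  refine ⟨⟨g.1, KE_le C hF g.2⟩, g.2, fun w hw hL => ?_⟩
  rw [gam_act_rho m _ hw]
  refine M.on_smul _ ?_
  show M.On (suVal _ *ᵥ _)
  rw [hl, Matrix.smul_mulVec]
  exact M.on_smul _ (hs _ hL)

end

end Cfsg.Agent.Fus.U62Four
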