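/-
The conjugates of the centre under the centraliser of the four-group inside the centraliser of the centre: each is
conjugate there into the abelian group of the frame.
-/
import Cfsg.Agent.Lib.Fus.U62Four.Vec

set_option autoImplicit false
set_option maxRecDepth 100000
set_option linter.unusedSectionVars false
set_option linter.unusedSimpArgs false
set_option linter.style.haveILetI false

open Cfsg Cfsg.Agent.Classical Cfsg.Agent.Spor.LargeFischer Matrix
open Cfsg.Agent.Spor.USixTwo (K4 vecOf)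
open Cfsg.Agent.Fus.LargeFischerScalar Cfsg.Agent.Fus.LargeFischerStab
open Cfsg.Agent.Fus.U62Rec (Q4)
open scoped symmDiff

namespace Cfsg.Agent.Fus.U62Four

variable {G : Type*} [Group G] [Finite G] {z : G} {Q : Subgroup (Subgroup.centralizer ({z} : Set G))}
  [hQn : Q.Normal] {m : Model z Q} (C : Ctx m)

/-- The centraliser of the four-group. -/
def CE : Subgroup G := Subgroup.centralizer {gv C.e1, gv C.e2}

theorem mem_CE {g : G} : g ∈ CE C ↔ g * gv C.e1 = gv C.e1 * g ∧ g * gv C.e2 = gv C.e2 * g := by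
  rw [CE, Subgroup.mem_centralizer_iff]
  constructor
  · intro h
    exact ⟨(h _ (Set.mem_insert _ _)).symm, (h _ (Set.mem_insert_of_mem _ rfl)).symm⟩
  · rintro ⟨h1, h2⟩ x (rfl | rfl)
    · exact h1.symm
    · exact h2.symm

theorem mem_KE_CE {u : Subgroup.centralizer ({z} : Set G)} : u ∈ KE C ↔ (u : G) ∈ CE C := by
  rw [mem_KE, mem_CE]

theorem z_mem_CE : z ∈ CE C :=
  (mem_CE C).2 ⟨(Subgroup.mem_centralizer_singleton_iff.1 (C.e1 : Subgroup.centralizer ({z} : Set G)).2).symm,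
    (Subgroup.mem_centralizer_singleton_iff.1 (C.e2 : Subgroup.centralizer ({z} : Set G)).2).symm⟩

theorem A_le_CE : C.A ≤ CE C := fun g hg => (mem_CE C).2 ⟨by rw [C.he1]; exact C.pic.comm _ hg _ (C.pic.pts.mem _),
  by rw [C.he2]; exact C.pic.comm _ hg _ (C.pic.pts.mem _)⟩

theorem pts_facts : (C.a ≠ C.b ∧ C.a ≠ C.c ∧ C.a ≠ C.w) ∧ (C.b ≠ C.c ∧ C.b ≠ C.w) ∧ C.c ≠ C.w := by
  have h := C.nodup
  simp only [List.nodup_cons, List.mem_cons, List.not_mem_nil, or_false, not_or, List.nodup_nil, and_true,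
    not_false_eq_true] at h
  exact h

/-- A conjugate of the centre other than it. -/
def Mem (u : Subgroup.centralizer ({z} : Set G)) : Prop := (u : G) ≠ z ∧ ∃ g ∈ CE C, g * z * g⁻¹ = (u : G)

theorem Mem.ke {u : Subgroup.centralizer ({z} : Set G)} (h : Mem C u) : u ∈ KE C := by
  obtain ⟨-, g, hg, e⟩ := h
  rw [mem_KE_CE, ← e]
  exact mul_mem (mul_mem hg (z_mem_CE C)) (inv_mem hg)

theorem Mem.sq {u : Subgroup.centralizer ({z} : Set G)} (h : Mem C u) : u * u = 1 := by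
  obtain ⟨-, g, -, e⟩ := h
  refine Subtype.ext ?_
  show (u : G) * (u : G) = 1
  rw [← e, show g * z * g⁻¹ * (g * z * g⁻¹) = g * (z * z) * g⁻¹ by group, m.ext.zz, mul_one, mul_inv_cancel]

theorem Mem.isConj {u : Subgroup.centralizer ({z} : Set G)} (h : Mem C u) : IsConj z (u : G) := by
  obtain ⟨-, g, -, e⟩ := h
  exact _root_.isConj_iff.2 ⟨g, e⟩

theorem Mem.conj {u c : Subgroup.centralizer ({z} : Set G)} (h : Mem C u) (hc : c ∈ KE C) :
    Mem C (c * u * c⁻¹) := by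
  obtain ⟨hne, g, hg, e⟩ := h
  have hcz : (c : G) * z = z * (c : G) := Subgroup.mem_centralizer_singleton_iff.1 c.2
  refine ⟨fun e' => hne ?_, (c : G) * g, mul_mem ((mem_KE_CE C).1 hc) hg, ?_⟩
  · simp only [Subgroup.coe_mul, Subgroup.coe_inv] at e'
    rw [mul_inv_eq_iff_eq_mul, ← hcz] at e'
    exact mul_left_cancel e'
  · simp only [Subgroup.coe_mul, Subgroup.coe_inv, ← e]; group

/-- A member of the twenty-one. -/
def InX (g : G) : Prop := ∃ x, [C.a, C.b, C.c, x].Nodup ∧ g = C.val {C.a, C.b, C.c, x}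

theorem inX_z : InX C z := ⟨C.w, C.nodup, C.hz⟩

theorem Mem.inX {u : Subgroup.centralizer ({z} : Set G)} (h : Mem C u) (hA : (u : G) ∈ C.A) : InX C (u : G) := by
  classical
  obtain ⟨⟨hab, hac, haw⟩, ⟨hbc, hbw⟩, hcw⟩ := pts_facts C
  have hc := h.isConj
  obtain ⟨-, g, hg, e⟩ := h
  obtain ⟨g1, g2⟩ := (mem_CE C).1 hg
  have key : ∀ s : Finset GolayPt, g * C.val s = C.val s * g → Nc z (C.val s * z) → Nc z (C.val s * (u : G)) := by
    intro s hs hn
    have e' : C.val s * (u : G) = g * (C.val s * z) * g⁻¹ := by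
      rw [← e, ← mul_assoc g, hs]; group
    rw [e']
    exact ⟨fun h1 => hn.1 (conj_eq_one_iff.1 h1), fun h1 => hn.2 (LargeFischerCoset.isConj_conj.1 h1)⟩
  have hz : ∀ x y u v : GolayPt, x ≠ y → ({C.a, C.b, C.c, C.w} : Finset GolayPt) = {u, v, x, y} →
      u ≠ x → u ≠ y → v ≠ x → v ≠ y → Nc z (C.val {u, v} * z) := by
    intro x y u v hxy heq h1 h2 h3 h4
    have : ({u, v} : Finset GolayPt) ∆ {u, v, x, y} = {x, y} := by
      ext p
      simp only [Finset.mem_symmDiff, Finset.mem_insert, Finset.mem_singleton]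
      constructor
      · tauto
      · rintro (rfl | rfl)
        exacts [Or.inr ⟨by simp, by simp [Ne.symm h1, Ne.symm h3]⟩, Or.inr ⟨by simp, by simp [Ne.symm h2, Ne.symm h4]⟩]
    have e : C.val {u, v} * z = C.val {x, y} :=
      calc C.val {u, v} * z = C.val {u, v} * C.val {C.a, C.b, C.c, C.w} := congrArg (C.val {u, v} * ·) C.hz
        _ = _ := by rw [heq, ← C.pic.pts.mul, this]
    rw [e]
    exact C.pic.nc_pair hxy
  obtain ⟨x, hx, ex⟩ := C.pic.four hab hac hbc hA hc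
    (key _ (by rw [← C.he1]; exact g1) (hz C.c C.w C.a C.b hcw rfl hac haw hbc hbw))
    (key _ (by rw [← C.he2]; exact g2) (hz C.b C.w C.a C.c hbw (by ext p; simp; tauto) hab haw (Ne.symm hbc) hcw))
  exact ⟨x, hx, ex⟩

theorem inX_ne {x : GolayPt} (hx : [C.a, C.b, C.c, x].Nodup) (hxw : x ≠ C.w) :
    C.val {C.a, C.b, C.c, x} ≠ z := fun e => by
  have h := C.pic.mul_four hxw hx C.nodup
  rw [e, ← C.hz, m.ext.zz] at h
  exact (C.pic.nc_pair hxw).1 h.symm

theorem mem_of_inX {u : Subgroup.centralizer ({z} : Set G)} (h : InX C (u : G)) (hne : (u : G) ≠ z) : Mem C u := by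
  obtain ⟨x, hx, e⟩ := h
  obtain ⟨n, -, n1, n2, n3⟩ := C.pic.move C.nodup hx
  refine ⟨hne, n, (mem_CE C).2 ⟨by rw [C.he1]; exact n1, by rw [C.he2]; exact n2⟩, ?_⟩
  rw [← C.hz] at n3
  rw [n3, e]

theorem inX_mem {g : G} (h : InX C g) : g ∈ C.A := by
  obtain ⟨x, -, rfl⟩ := h
  exact C.pic.pts.mem _

/-- Members differing inside the kernel coincide. -/
theorem inX_unique {g g' : G} (hg : InX C g) (hg' : InX C g') (q : Q) (hq : gv q = g * g') (hp : Pp m.k (m.rep q))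
    (h0 : gam m.k (m.rep q) = 0) : g = g' := by
  classical
  obtain ⟨x, hx, rfl⟩ := hg
  obtain ⟨y, hy, rfl⟩ := hg'
  by_contra hne
  have hxy : x ≠ y := fun e => hne (by rw [e])
  rw [C.pic.mul_four hxy hx hy] at hq
  obtain ⟨⟨hab, hac, haw⟩, ⟨hbc, hbw⟩, hcw⟩ := pts_facts C
  simp only [List.nodup_cons, List.mem_cons, List.not_mem_nil, or_false, not_or, List.nodup_nil, and_true,
    not_false_eq_true] at hx hy
  have hbad : ∀ s : Finset GolayPt, s.card = 2 → (C.a ∈ s ∨ C.b ∈ s ∨ C.c ∈ s) → gv q ≠ C.val s := by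
    intro s hs hmem e
    have := C.pic.pts.eq_of_val (s := {x, y}) (t := s) (by rw [Finset.card_pair hxy, hs]; exact ⟨2, rfl⟩)
      (by rw [Finset.card_pair hxy, hs]; norm_num) (hq.symm.trans e)
    subst this
    simp only [Finset.mem_insert, Finset.mem_singleton] at hmem
    rcases hmem with (e | e) | (e | e) | (e | e)
    exacts [hx.1.2.2 e, hy.1.2.2 e, hx.2.1.2 e, hy.2.1.2 e, hx.2.2 e, hy.2.2 e]
  have hz2 : ∀ p p' o : GolayPt, p ≠ p' → ({C.a, C.b, C.c, C.w} : Finset GolayPt) = {p, p', o, C.w} →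
      p ≠ o → p ≠ C.w → p' ≠ o → p' ≠ C.w → C.val {p, p'} * z = C.val {o, C.w} := by
    intro p p' o hpp heq h1 h2 h3 h4
    calc C.val {p, p'} * z = C.val {p, p'} * C.val {C.a, C.b, C.c, C.w} := congrArg (C.val {p, p'} * ·) C.hz
      _ = _ := ?_
    rw [heq, ← C.pic.pts.mul]
    congr 1
    ext u
    simp only [Finset.mem_symmDiff, Finset.mem_insert, Finset.mem_singleton]
    constructor
    · tauto
    · rintro (rfl | rfl)
      exacts [Or.inr ⟨by simp, by simp [Ne.symm h1, Ne.symm h3]⟩, Or.inr ⟨by simp, by simp [Ne.symm h2, Ne.symm h4]⟩]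
  have h12 : gv (C.e1 * C.e2) = C.val {C.b, C.c} := by
    show gv C.e1 * gv C.e2 = _
    rw [C.he1, C.he2, ← C.pic.pts.mul]
    congr 1
    ext u
    simp only [Finset.mem_symmDiff, Finset.mem_insert, Finset.mem_singleton]
    constructor
    · tauto
    · rintro (rfl | rfl)
      exacts [Or.inl ⟨Or.inr rfl, by simp [Ne.symm hab, hbc]⟩, Or.inr ⟨Or.inr rfl, by simp [Ne.symm hac, Ne.symm hbc]⟩]
  obtain ⟨a, ha⟩ := (b_facts m.hk).2.1 _ hp h0
  have hcase : ∀ (e : Q) (p p' o : GolayPt), gv e = C.val {p, p'} → m.rep e = m.rep q → p ≠ p' →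
      ({C.a, C.b, C.c, C.w} : Finset GolayPt) = {p, p', o, C.w} → p ≠ o → p ≠ C.w → p' ≠ o → p' ≠ C.w →
      (p = C.a ∨ p = C.b) → (o = C.a ∨ o = C.b ∨ o = C.c) → False := by
    intro e p p' o he hr hpp heq h1 h2 h3 h4 hp' ho
    rcases m.rep_eq hr with e' | e'
    · refine hbad _ (Finset.card_pair hpp) ?_ (e'.trans he)
      rcases hp' with r | r <;> simp [r]
    · rw [he, hz2 p p' o hpp heq h1 h2 h3 h4] at e'
      have how : o ≠ C.w := by rcases ho with r | r | r <;> rw [r] <;> assumption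
      refine hbad _ (Finset.card_pair how) ?_ e'
      rcases ho with r | r | r <;> simp [r]
  have hperm1 : ({C.a, C.b, C.c, C.w} : Finset GolayPt) = {C.a, C.c, C.b, C.w} := by ext u; simp; tauto
  have hperm2 : ({C.a, C.b, C.c, C.w} : Finset GolayPt) = {C.b, C.c, C.a, C.w} := by ext u; simp; tauto
  rcases k4_cases a with rfl | rfl | rfl | rfl
  · rw [zero_smul] at ha
    rcases (m.rep_zero q).1 ha with e | e
    · exact (C.pic.nc_pair hxy).1 (hq.symm.trans e)
    · exact (C.pic.nc_pair hxy).2 ((congrArg (IsConj z) (hq.symm.trans e)).mpr (IsConj.refl z))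
  · exact hcase C.e1 C.a C.b C.c C.he1 (by rw [C.rep1, ha, one_smul]) hab rfl hac haw hbc hbw (Or.inl rfl)
      (Or.inr (Or.inr rfl))
  · exact hcase C.e2 C.a C.c C.b C.he2 (by rw [C.rep2, ha]) hac hperm1 hab haw (Ne.symm hbc) hcw (Or.inl rfl)
      (Or.inr (Or.inl rfl))
  · refine hcase (C.e1 * C.e2) C.b C.c C.a h12 ?_ hbc hperm2 (Ne.symm hab) hbw (Ne.symm hac) hcw (Or.inr rfl)
      (Or.inl rfl)
    rw [m.rep_mul, C.rep1, C.rep2, ha]
    nth_rw 1 [← one_smul K4 (rep m.k 1)]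
    rw [← add_smul, show (1 : K4) + ω = ω * ω by decide +kernel]

section Space

variable (m)

/-- The point of a vector. -/
abbrev gq (x : Q) : V4 := gam m.k (m.rep x)

end Space

theorem gam_O_indep (s t : K4) (h : s • gam m.k C.O1 + t • gam m.k C.O2 = 0) : s = 0 ∧ t = 0 := by
  have hk := m.hk
  obtain ⟨a, ha⟩ := (b_facts hk).2.1 (s • C.O1 + t • C.O2)
    (pp_add (pp_smul s (pp_inO C.inO1)) (pp_smul t (pp_inO C.inO2))) (by rw [gam_add, gam_smul, gam_smul, h])
  by_cases ht : t = 0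
  · refine ⟨?_, ht⟩
    by_contra hs
    rw [ht, zero_smul, add_zero] at ha
    have h1 : C.O1 = (s⁻¹ * a) • rep m.k 1 := by rw [← smul_smul, ← ha, inv_smul_smul₀ hs]
    have hne : s⁻¹ * a ≠ 0 := by
      intro e
      rw [e, zero_smul] at h1
      rcases lab_facts hk C.O1 with ⟨e1, -⟩ | ⟨-, e1, -⟩
      · rw [C.inO1.1] at e1; exact one_ne_zero e1
      · exact e1 h1
    have := ((inO_iff m _ _).1 C.inO1).2.2 _ hne
    rw [h1, neg_self6] at this
    rcases lab_facts hk (0 : Fin 6 → K4) with ⟨e1, -⟩ | ⟨-, e1, -⟩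
    · omega
    · exact e1 rfl
  · exfalso
    refine C.indep (t⁻¹ * a) (t⁻¹ * s) ?_
    have e : t • C.O2 = a • rep m.k 1 + s • C.O1 := by
      rw [← ha, add_comm (s • C.O1), add_assoc, neg_self6, add_zero]
    rw [← smul_smul, ← smul_smul, ← smul_add, ← e, inv_smul_smul₀ ht]

/-- The line of the frame. -/
def U0 : Line where
  x := gam m.k C.O1
  y := gam m.k C.O2
  xx := by
    refine (herm_gam m.hk (pp_inO C.inO1) (pp_inO C.inO1)).symm.trans ?_
    rcases lab_facts m.hk C.O1 with ⟨e, -⟩ | ⟨-, -, e⟩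
    · rw [C.inO1.1] at e; exact absurd e one_ne_zero
    · exact e
  yy := by
    refine (herm_gam m.hk (pp_inO C.inO2) (pp_inO C.inO2)).symm.trans ?_
    rcases lab_facts m.hk C.O2 with ⟨e, -⟩ | ⟨-, -, e⟩
    · rw [C.inO2.1] at e; exact absurd e one_ne_zero
    · exact e
  xy := (herm_gam m.hk (pp_inO C.inO1) (pp_inO C.inO2)).symm.trans C.orth
  indep := gam_O_indep C

theorem sp_facts {w : Fin 6 → K4} (h : Sp (rep m.k 1) C.O1 C.O2 w) : Pp m.k w ∧ (U0 C).On (gam m.k w) := by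
  obtain ⟨r, s, t, rfl⟩ := h
  refine ⟨pp_add (pp_add (pp_smul r (pp_self m.hk)) (pp_smul s (pp_inO C.inO1))) (pp_smul t (pp_inO C.inO2)),
    s, t, ?_⟩
  rw [gam_add, gam_add, gam_v0 m.hk, zero_add, gam_smul, gam_smul]
  rfl

theorem sp_of_on {w : Fin 6 → K4} (hp : Pp m.k w) (h : (U0 C).On (gam m.k w)) :
    Sp (rep m.k 1) C.O1 C.O2 w := by
  obtain ⟨s, t, e⟩ := h
  obtain ⟨a, ha⟩ := (b_facts m.hk).2.1 (w + (s • C.O1 + t • C.O2))
    (pp_add hp (pp_add (pp_smul s (pp_inO C.inO1)) (pp_smul t (pp_inO C.inO2))))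
    (by rw [gam_add, gam_add, gam_smul, gam_smul, e]; exact add_self4 _)
  exact ⟨a, s, t, by rw [← ha, add_assoc (w + _), add_assoc, neg_self6, add_zero]⟩

theorem norm_calc : ∀ κ t : K4, (t = 0 ∨ t = 1) → (κ + κ ^ 2 = 0 ↔ t = 0) → κ ^ 2 + (κ + t) = 0 := by decide +kernel

theorem bit_three : ∀ κ : K4,
    (κ + κ ^ 2 = 0 ↔ ω * κ + (ω * κ) ^ 2 = 0) ↔ ω * ω * κ + (ω * ω * κ) ^ 2 = 0 := by decide +kernel

theorem trace_all {h : K4} (h' : ∀ b : K4, b * h + (b * h) ^ 2 = 0) : h = 0 :=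
  (show ∀ h : K4, h + h ^ 2 = 0 → ω * h + (ω * h) ^ 2 = 0 → h = 0 by decide +kernel) h
    (by simpa using h' 1) (h' ω)

/-- An element of the extraspecial group in the group of the frame. -/
theorem on_of_mem {q : Q} (hq : gv q ∈ C.A) (hp : Pp m.k (m.rep q)) : (U0 C).On (gq m q) := by
  have key : ∀ v, (U0 C).On v → fH (gq m q) v = 0 := by
    intro v hv
    refine trace_all fun b => ?_
    have hb : ∀ b : K4, (b ^ 2) ^ 2 = b := by decide +kernel
    obtain ⟨x, hx⟩ := m.rep_surj (up m.k (b ^ 2 • v))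
    have hpx : Pp m.k (m.rep x) := hx ▸ pp_up m.hk _
    have hgx : gq m x = b ^ 2 • v := by rw [gq, hx, gam_up m.hk]
    have hiso : hermForm 6 K4 2 (m.rep x) (m.rep x) = 0 := by
      rw [herm_gam m.hk hpx hpx, show gam m.k (m.rep x) = b ^ 2 • v from hgx]
      exact (U0 C).herm ((U0 C).on_smul _ hv) ((U0 C).on_smul _ hv)
    have hxA : gv x ∈ C.A := C.qu_mem x (sp_of_on C hpx (by rw [show gam m.k (m.rep x) = b ^ 2 • v from hgx]; exact (U0 C).on_smul _ hv))
    have hc := (comm_iff m q x hiso).1 (Subtype.ext (Subtype.ext (C.pic.comm _ hq _ hxA)))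
    rw [herm_gam m.hk hp hpx, show gam m.k (m.rep x) = b ^ 2 • v from hgx, fH_smul_right, hb] at hc
    exact hc
  exact (U0 C).on_iff.2 ⟨key _ (U0 C).x_on, key _ (U0 C).y_on⟩

/-- The unitary image. -/
noncomputable def R (hF : IsOfLargeFischerTypeAt z Q) : ↥(KE C) →* SU 4 K4 2 :=
  (rho m).comp (Subgroup.inclusion (KE_le C hF))

variable (hF : IsOfLargeFischerTypeAt z Q)
include hF

theorem R_apply (g : ↥(KE C)) : R C hF g = rho m (Subgroup.inclusion (KE_le C hF) g) := by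
  rw [R, MonoidHom.comp_apply]

theorem gam_R (g : ↥(KE C)) {w : Fin 6 → K4} (hw : Pp m.k w) :
    ∃ d : K4, d ≠ 0 ∧ gam m.k (m.act g.1 w) = d • mv (R C hF g) (gam m.k w) := by
  have e := gam_act_rho m (Subgroup.inclusion (KE_le C hF) g) hw
  rw [Subgroup.coe_inclusion, ← R_apply C hF g] at e
  exact ⟨_, det_ne m (KE_le C hF g.2), e⟩

theorem gam_R_invol (g : ↥(KE C)) (h : g.1 * g.1 = 1) {w : Fin 6 → K4} (hw : Pp m.k w) :
    gam m.k (m.act g.1 w) = mv (R C hF g) (gam m.k w) := by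
  have e := gam_act_invol m (g := Subgroup.inclusion (KE_le C hF) g) (Subtype.ext h) hw
  rw [Subgroup.coe_inclusion, ← R_apply C hF g] at e
  exact e

/-- A fixed line means a fixed space. -/
theorem fix_space (g : ↥(KE C)) (h : g.1 * g.1 = 1) (hfix : ∀ v, (U0 C).On v → mv (R C hF g) v = v)
    {w : Fin 6 → K4} (hw : Sp (rep m.k 1) C.O1 C.O2 w) : m.act g.1 w = w := by
  have hK := KE_le C hF g.2
  have hO : ∀ o, InO m.k (rep m.k 1) o → (U0 C).On (gam m.k o) → m.act g.1 o = o := fun o ho hon => by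
    rw [fix_inO m one_ne_zero hK ho (by rw [one_smul, gam_R_invol C hF g h (pp_inO ho), hfix _ hon]), one_smul]
  obtain ⟨r, s, t, rfl⟩ := hw
  have hv : m.act g.1 (rep m.k 1) = rep m.k 1 := hK.1
  rw [m.act_add, m.act_add, act_scalar m hK.2, act_scalar m hK.2, act_scalar m hK.2, hv,
    hO _ C.inO1 (U0 C).x_on, hO _ C.inO2 (U0 C).y_on]

omit hF in
theorem act_mem (g : Subgroup.centralizer ({z} : Set G)) (hg : (g : G) ∈ C.A) {w : Fin 6 → K4}
    (hw : Sp (rep m.k 1) C.O1 C.O2 w) : m.act g w = w := (C.fixes g hg).2 w hw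

theorem R_fix_of_mem (g : ↥(KE C)) (hg : ((g.1 : Subgroup.centralizer ({z} : Set G)) : G) ∈ C.A)
    {v : V4} (hv : (U0 C).On v) : mv (R C hF g) v = v := by
  have h2 : g.1 * g.1 = 1 := Subtype.ext (C.pic.pts.sq _ hg)
  have hp := pp_up m.hk v
  have hg' := gam_up m.hk v
  have e := gam_R_invol C hF g h2 hp
  rw [act_mem C g.1 hg (sp_of_on C hp (hg'.symm ▸ hv)), hg'] at e
  exact e.symm

omit hF in
/-- A conjugation result. -/
theorem conj_cases {u : Subgroup.centralizer ({z} : Set G)} {x : Q} (h : m.act u (m.rep x) = m.rep x) :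
    (u : G) * gv x * (u : G)⁻¹ = gv x ∨ (u : G) * gv x * (u : G)⁻¹ = gv x * z :=
  LargeFischerAbelian.rep_conj_eq m h

/-- Every member is conjugate into the group of the frame. -/
theorem exists_into {u : Subgroup.centralizer ({z} : Set G)} (hu : Mem C u) :
    ∃ g ∈ KE C, ((g * u * g⁻¹ : Subgroup.centralizer ({z} : Set G)) : G) ∈ C.A := by
  classical
  have hk := m.hk
  obtain ⟨L, hL⟩ := line_of_iso {t | ∃ v, t = mv (R C hF ⟨u, hu.ke⟩) v + v} (by
    rintro _ ⟨v, rfl⟩ _ ⟨v', rfl⟩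
    exact invol_image _ (by rw [← map_mul, show (⟨u, hu.ke⟩ : KE C) * ⟨u, hu.ke⟩ = 1 from Subtype.ext hu.sq,
      map_one]) v v')
  obtain ⟨g1, hg1, hc1⟩ := exists_carry C hF L (U0 C)
  set u1 := g1.1 * u * g1.1⁻¹ with hu1
  have hm1 : Mem C u1 := hu.conj C hg1
  let U1 : ↥(KE C) := ⟨u1, hm1.ke⟩
  have hsq : u1 * u1 = 1 := hm1.sq
  have hsqR : R C hF U1 * R C hF U1 = 1 := by
    rw [← map_mul, show U1 * U1 = 1 from Subtype.ext hsq, map_one]
  have himg : ∀ v, (U0 C).On (mv (R C hF U1) v + v) := fun v => by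
    have hp := pp_up hk v
    have hp' : Pp m.k (m.act g1.1⁻¹ (up m.k v)) := pp_act m (inv_mem g1.2) hp
    have h2 := hc1 _ (pp_add (pp_act m (KE_le C hF hu.ke) hp') hp') (by
      rw [gam_add, gam_R_invol C hF ⟨u, hu.ke⟩ hu.sq hp']
      exact hL _ ⟨_, rfl⟩)
    rw [m.act_add, ← m.act_mul, ← m.act_mul g1.1, ← m.act_mul, mul_inv_cancel, m.act_one, gam_add,
      gam_R_invol C hF U1 hsq hp, gam_up hk] at h2
    exact h2
  have hfix : ∀ w, Sp (rep m.k 1) C.O1 C.O2 w → m.act u1 w = w := fun w hw =>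
    fix_space C hF U1 hsq (fun v hv => fix_of_image _ hsqR himg hv) hw
  obtain ⟨a, haA, hay⟩ := C.lift u1 (KE_le C hF hm1.ke).2 hfix
  set y : Q := ⟨_, hay⟩ with hy
  have hu1y : u1 = a * (y : Subgroup.centralizer ({z} : Set G)) := (mul_inv_cancel_left a u1).symm
  have haK : a ∈ KE C := (mem_KE_CE C).2 (A_le_CE C haA)
  have hyp : Pp m.k (m.rep y) := (q_mem_KE C y).1 (mul_mem (inv_mem haK) hm1.ke)
  by_cases hon : (U0 C).On (gq m y)
  · refine ⟨g1.1, hg1, ?_⟩
    show (u1 : G) ∈ C.A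
    rw [hu1y]
    exact mul_mem haA (C.qu_mem y (sp_of_on C hyp hon))
  have hu1act : ∀ w, m.act u1 w = m.act a w := fun w => by
    rw [hu1y, m.act_mul, (m.act_ker _).2 y.2]
  have ha2 : a * a = 1 := Subtype.ext (C.pic.pts.sq _ haA)
  have hay' : a * (y : Subgroup.centralizer ({z} : Set G)) * a⁻¹ = (y : Subgroup.centralizer ({z} : Set G))⁻¹ := by
    have h := hsq
    rw [hu1y] at h
    rw [inv_eq_of_mul_eq_one_right ha2, eq_inv_iff_mul_eq_one]
    rwa [show a * (y : Subgroup.centralizer ({z} : Set G)) * a * y =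
      a * (y : Subgroup.centralizer ({z} : Set G)) * (a * y) by group]
  have hyfix : m.act u1 (m.rep y) = m.rep y := by
    rw [hu1act, m.act_rep, ← m.rep_inv y]
    exact congrArg m.rep (Subtype.ext hay')
  have hzc : ∀ g : Subgroup.centralizer ({z} : Set G), (g : G) * z = z * (g : G) := fun g =>
    Subgroup.mem_centralizer_singleton_iff.1 g.2
  -- the commutation bit
  let Bit : Q → Prop := fun x => (u1 : G) * gv x * (u1 : G)⁻¹ = gv x
  have bit_mul : ∀ x x' : Q, m.act u1 (m.rep x) = m.rep x → m.act u1 (m.rep x') = m.rep x' →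
      (Bit (x * x') ↔ (Bit x ↔ Bit x')) := by
    intro x x' hx hx'
    have e : (u1 : G) * gv (x * x') * (u1 : G)⁻¹ =
        ((u1 : G) * gv x * (u1 : G)⁻¹) * ((u1 : G) * gv x' * (u1 : G)⁻¹) := by
      show (u1 : G) * (gv x * gv x') * (u1 : G)⁻¹ = _
      group
    show _ = gv x * gv x' ↔ _
    rw [e]
    have hne : ∀ p : G, p * z ≠ p := fun p h => m.ext.ne (mul_eq_left.1 h)
    rcases conj_cases hx with p | p <;> rcases conj_cases hx' with p' | p' <;>
      simp only [Bit, p, p', hne, iff_self, iff_false, false_iff, iff_true, true_iff, not_true, not_false_iff, eq_self]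
    · rw [← mul_assoc]; exact hne _
    · rw [mul_assoc, ← hzc, ← mul_assoc]; exact hne _
    · rw [mul_assoc, ← mul_assoc z, ← hzc, mul_assoc, m.ext.zz, mul_one]
  have bit_sp : ∀ x : Q, Sp (rep m.k 1) C.O1 C.O2 (m.rep x) →
      (Bit x ↔ fH (gq m x) (gq m y) + fH (gq m x) (gq m y) ^ 2 = 0) := by
    intro x hx
    obtain ⟨hpx, honx⟩ := sp_facts C hx
    have hiso : hermForm 6 K4 2 (m.rep x) (m.rep x) = 0 := by
      rw [herm_gam hk hpx hpx]; exact (U0 C).herm honx honx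
    have hax : (a : G) * gv x = gv x * (a : G) := C.pic.comm _ haA _ (C.qu_mem x hx)
    have h1 : Bit x ↔ gv y * gv x = gv x * gv y := by
      show (u1 : G) * gv x * (u1 : G)⁻¹ = gv x ↔ _
      rw [mul_inv_eq_iff_eq_mul, show (u1 : G) = (a : G) * gv y from congrArg Subtype.val hu1y, mul_assoc,
        ← mul_assoc (gv x), ← hax, mul_assoc]
      exact mul_left_cancel_iff
    have h2 : gv y * gv x = gv x * gv y ↔ y * x = x * y :=
      ⟨fun e => Subtype.ext (Subtype.ext e), fun e => congrArg gv e⟩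
    rw [h1, h2, comm_iff m y x hiso, fH_swap (gq m y) (gq m x), ← herm_gam hk hyp hpx]
    generalize hermForm 6 K4 2 (m.rep y) (m.rep x) = t
    revert t; decide +kernel
  have bit_y : Bit y ↔ fH (gq m y) (gq m y) = 0 := by
    rw [show fH (gq m y) (gq m y) = hermForm 6 K4 2 (m.rep y) (m.rep y) from (herm_gam hk hyp hyp).symm, m.herm_zero]
    show (u1 : G) * gv y * (u1 : G)⁻¹ = gv y ↔ _
    have e : (u1 : G) * gv y * (u1 : G)⁻¹ = (gv y)⁻¹ := by
      rw [show (u1 : G) = (a : G) * gv y from congrArg Subtype.val hu1y,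
        show (a : G) * gv y * gv y * ((a : G) * gv y)⁻¹ = (a : G) * gv y * (a : G)⁻¹ by group]
      exact congrArg Subtype.val hay'
    rw [e, inv_eq_iff_mul_eq_one]
    exact ⟨fun h => Subtype.ext (Subtype.ext h), fun h => congrArg gv h⟩
  -- the new line
  obtain ⟨r, hr, hr0, hry⟩ := (U0 C).meet (gq m y)
  obtain ⟨p, hp, hpy⟩ : ∃ p, (U0 C).On p ∧ fH p (gq m y) = 1 := by
    by_cases h1 : fH (U0 C).x (gq m y) = 0
    · have h2 : fH (U0 C).y (gq m y) ≠ 0 := fun h2 => hon ((U0 C).on_iff.2 ⟨fH_zero h1, fH_zero h2⟩)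
      exact ⟨_, (U0 C).on_smul (fH (U0 C).y (gq m y))⁻¹ (U0 C).y_on, by rw [fH_smul_left, inv_mul_cancel₀ h2]⟩
    · exact ⟨_, (U0 C).on_smul (fH (U0 C).x (gq m y))⁻¹ (U0 C).x_on, by rw [fH_smul_left, inv_mul_cancel₀ h1]⟩
  obtain ⟨qω, hqω⟩ := m.rep_surj (ω • m.rep y)
  have hfixy : ∀ b : K4, m.act u1 (b • m.rep y) = b • m.rep y := fun b => by
    rw [act_scalar m (KE_le C hF hm1.ke).2, hyfix]
  have hsel : ∀ s t : Bool, ∃ κ : K4, (κ + κ ^ 2 = 0 ↔ s = true) ∧ (ω * κ + (ω * κ) ^ 2 = 0 ↔ t = true) := by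
    decide +kernel
  obtain ⟨κ, hκ1, hκ2⟩ := hsel (decide (Bit y)) (decide (Bit qω))
  rw [decide_eq_true_eq] at hκ1 hκ2
  have hY'0 : fH (κ • p + gq m y) (κ • p + gq m y) = 0 := by
    have hyp' : fH (gq m y) p = 1 := by rw [fH_swap p, hpy]; norm_num
    simp only [fH_add_left, fH_add_right, fH_smul_left, fH_smul_right, (U0 C).herm hp hp, hpy, hyp', mul_one,
      mul_zero, zero_add]
    have hb := hκ1.trans bit_y
    have hbit : fH (gq m y) (gq m y) = 0 ∨ fH (gq m y) (gq m y) = 1 := by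
      rw [show fH (gq m y) (gq m y) = hermForm 6 K4 2 (m.rep y) (m.rep y) from (herm_gam hk hyp hyp).symm]
      exact herm_bit _
    exact norm_calc κ _ hbit hb
  have hry' : fH r (κ • p + gq m y) = 0 := by
    rw [fH_add_right, fH_smul_right, (U0 C).herm hr hp, hry, mul_zero, add_zero]
  have hne : ∀ b : K4, κ • p + gq m y ≠ b • r := fun b e => hon (by
    rw [show gq m y = b • r + κ • p by rw [← e, add_comm (κ • p), add_assoc, add_self4, add_zero]]
    exact (U0 C).on_add ((U0 C).on_smul b hr) ((U0 C).on_smul κ hp))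
  let L' : Line := mkLine ((U0 C).herm hr hr) hY'0 hry' hr0 hne
  have hup : ∀ v, (U0 C).On v → Sp (rep m.k 1) C.O1 C.O2 (up m.k v) := fun v hv =>
    sp_of_on C (pp_up hk v) ((gam_up hk v).symm ▸ hv)
  have hcomm : ∀ x : Q, Pp m.k (m.rep x) → L'.On (gq m x) → Bit x := by
    intro x hx honL
    obtain ⟨β, b, e⟩ := honL
    change gq m x = β • r + b • (κ • p + gq m y) at e
    obtain ⟨pb, hpb⟩ := m.rep_surj ((b * κ) • up m.k p)
    obtain ⟨cb, hcb⟩ := m.rep_surj (b • m.rep y)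
    have hcb' : Bit cb ↔ (b * κ + (b * κ) ^ 2 = 0) := by
      have hsame : ∀ q q' : Q, m.rep q = m.rep q' → (Bit q ↔ Bit q') := by
        intro q q' hqq
        rcases m.rep_eq hqq with e' | e' <;> simp only [Bit, e']
        have hzu : z * (u1 : G)⁻¹ = (u1 : G)⁻¹ * z := (Commute.inv_right (hzc u1).symm).eq
        rw [show (u1 : G) * (gv q * z) * (u1 : G)⁻¹ = (u1 : G) * gv q * (u1 : G)⁻¹ * z by
          simp only [mul_assoc, hzu]]
        exact (mul_left_inj z).symm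
      rcases k4_cases b with rfl | rfl | rfl | rfl
      · rw [hsame cb 1 (by rw [hcb, zero_smul, m.rep_one])]
        refine iff_of_true ?_ (by simp)
        show (u1 : G) * 1 * (u1 : G)⁻¹ = 1
        group
      · rw [hsame cb y (by rw [hcb, one_smul]), one_mul]; exact hκ1.symm
      · rw [hsame cb qω (by rw [hcb, hqω])]; exact hκ2.symm
      · have ew : (ω * ω : K4) = 1 + ω := by decide +kernel
        rw [hsame cb (y * qω) (by rw [hcb, m.rep_mul, hqω, ew, add_smul, one_smul]),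
          bit_mul _ _ hyfix (by rw [hqω, hfixy]), ← hκ1, ← hκ2]
        exact bit_three κ
    have hpbS : Sp (rep m.k 1) C.O1 C.O2 (m.rep pb) := by
      rw [hpb]
      refine sp_of_on C (pp_smul _ (pp_up hk p)) ?_
      rw [gam_smul, gam_up hk]; exact (U0 C).on_smul _ hp
    have hbitxb : Bit (pb * cb) := by
      rw [bit_mul _ _ (hfix _ hpbS) (by rw [hcb, hfixy]), hcb', bit_sp _ hpbS,
        show gq m pb = (b * κ) • p by rw [gq, hpb, gam_smul, gam_up hk], fH_smul_left, hpy, mul_one]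
    have hs : Sp (rep m.k 1) C.O1 C.O2 (m.rep (x * (pb * cb))) ∧ gq m (x * (pb * cb)) = β • r := by
      have hg : gq m (x * (pb * cb)) = β • r := by
        show gam m.k (m.rep _) = _
        rw [m.rep_mul, m.rep_mul, hpb, hcb, gam_add, gam_add, gam_smul, gam_up hk, gam_smul,
          show gam m.k (m.rep x) = β • r + b • (κ • p + gq m y) from e, smul_add, smul_smul, add_assoc,
          add_self4, add_zero]
      refine ⟨sp_of_on C ?_ ?_, hg⟩
      · rw [m.rep_mul, m.rep_mul, hcb]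
        exact pp_add hx (pp_add (sp_facts C hpbS).1 (pp_smul b hyp))
      · show (U0 C).On (gq m (x * (pb * cb)))
        rw [hg]; exact (U0 C).on_smul β hr
    have hfixx : m.act u1 (m.rep (x * (pb * cb))) = m.rep (x * (pb * cb)) := hfix _ hs.1
    have hb : Bit (x * (pb * cb)) := (bit_sp _ hs.1).2 (by rw [hs.2, fH_smul_left, hry]; simp)
    have hfixpc : m.act u1 (m.rep (pb * cb)) = m.rep (pb * cb) := by
      rw [m.rep_mul, m.act_add, hfix _ hpbS, hcb, hfixy]
    have hfixx' : m.act u1 (m.rep x) = m.rep x := by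
      rw [m.rep_mul x] at hfixx
      rw [m.act_add, hfixpc] at hfixx
      exact add_right_cancel hfixx
    exact ((bit_mul x (pb * cb) hfixx' hfixpc).1 hb).2 hbitxb
  obtain ⟨g2, hg2, hc2⟩ := exists_carry C hF (U0 C) L'
  refine ⟨g2.1⁻¹ * g1.1, mul_mem (inv_mem hg2) hg1, ?_⟩
  have e : g2.1⁻¹ * g1.1 * u * (g2.1⁻¹ * g1.1)⁻¹ = g2.1⁻¹ * u1 * g2.1 := by rw [hu1]; group
  rw [e]
  refine C.into _ (KE_le C hF (mul_mem (mul_mem (inv_mem hg2) hm1.ke) hg2)).2 fun x hx => ?_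
  obtain ⟨hpx, honx⟩ := sp_facts C hx
  have hgx : m.rep (qconj g2.1 x) = m.act g2.1 (m.rep x) := (m.act_rep _ _).symm
  have hb : (u1 : G) * ((g2.1 : G) * gv x * (g2.1 : G)⁻¹) * (u1 : G)⁻¹ = (g2.1 : G) * gv x * (g2.1 : G)⁻¹ :=
    hcomm (qconj g2.1 x) (hgx ▸ pp_act m g2.2 hpx) (by rw [gq, hgx]; exact hc2 _ hpx honx)
  simp only [Subgroup.coe_mul, Subgroup.coe_inv]
  generalize ((g2.1 : Subgroup.centralizer ({z} : Set G)) : G) = g at hb ⊢
  rw [mul_inv_eq_iff_eq_mul] at hb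
  calc g⁻¹ * (u1 : G) * g * gv x = g⁻¹ * ((u1 : G) * (g * gv x * g⁻¹)) * g := by group
    _ = g⁻¹ * ((g * gv x * g⁻¹) * (u1 : G)) * g := by rw [hb]
    _ = _ := by group

end Cfsg.Agent.Fus.U62Four
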