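/-
The members over each transvection: twenty in the abelian group of the frame fall into five fibres of four, one for
each point of its line, and so every transvection carries four.
-/
import Cfsg.Agent.Lib.Fus.U62Four.Members

set_option autoImplicit false
set_option maxRecDepth 100000
set_option linter.unusedSectionVars false
set_option linter.unusedSimpArgs false
set_option linter.style.haveILetI false

open Cfsg Cfsg.Agent.Classical Cfsg.Agent.Spor.LargeFischer Cfsg.Agent.Spor.UnitTwo Matrix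
open Cfsg.Agent.Spor.USixTwo (K4)
open Cfsg.Agent.Fus.LargeFischerScalar
open Cfsg.Agent.Fus.U62Rec (Q4)
open Cfsg.Agent.Block.FischerTypes.U6 (root roots root_commute root_eq root_smul root_congr)

namespace Cfsg.Agent.Fus.U62Four

theorem tv_congr {r r' : V4} (hr : fH r r = 0) (hr' : fH r' r' = 0) (e : r = r') : tv hK4 hr = tv hK4 hr' := by
  subst e; rfl

theorem tv_scale {r r' : V4} (hr : fH r r = 0) (hr' : fH r' r' = 0) {a : K4} (ha : a ≠ 0) (e : r' = a • r) :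
    tv hK4 hr' = tv hK4 hr := by
  refine suVal_ext ?_
  rw [suVal_tv hK4, suVal_tv hK4, e, T_smul hK4 ha]

theorem mv_mul (s t : SU 4 K4 2) (v : V4) : mv (s * t) v = mv s (mv t v) := by
  show suVal (s * t) *ᵥ v = suVal s *ᵥ (suVal t *ᵥ v)
  rw [suVal_mul, Matrix.mulVec_mulVec]

theorem mv_inv_cancel (s : SU 4 K4 2) (v : V4) : mv s (mv s⁻¹ v) = v := by
  rw [← mv_mul, mul_inv_cancel]; exact Matrix.one_mulVec v

theorem mv_smul (s : SU 4 K4 2) (a : K4) (v : V4) : mv s (a • v) = a • mv s v := Matrix.mulVec_smul _ _ _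

theorem tv_conj (s : SU 4 K4 2) {r : V4} (hr : fH r r = 0) (hr' : fH (mv s r) (mv s r) = 0) :
    s * tv hK4 hr * s⁻¹ = tv hK4 hr' := by
  refine suVal_ext (Matrix.ext_iff_mulVec.2 fun v => ?_)
  show mv (s * tv hK4 hr * s⁻¹) v = mv (tv hK4 hr') v
  rw [mv_mul, mv_mul, mv_tv, mv_tv]
  show suVal s *ᵥ (_ + _) = _
  rw [Matrix.mulVec_add, Matrix.mulVec_smul]
  show mv s (mv s⁻¹ v) + fH (mv s⁻¹ v) r • mv s r = _
  rw [← fH_mv s (mv s⁻¹ v) r, mv_inv_cancel]

variable {G : Type*} [Group G] [Finite G] {z : G} {Q : Subgroup (Subgroup.centralizer ({z} : Set G))}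
  [hQn : Q.Normal] {m : Model z Q} (C : Ctx m) (hF : IsOfLargeFischerTypeAt z Q)

/-- The unitary image, everywhere. -/
noncomputable def Rt (u : Subgroup.centralizer ({z} : Set G)) : SU 4 K4 2 :=
  @dite _ (u ∈ KE C) (_root_.Classical.propDecidable _) (fun h => R C hF ⟨u, h⟩) fun _ => 1

/-- The image, everywhere. -/
noncomputable def Pi (u : Subgroup.centralizer ({z} : Set G)) : Q4 := suToPSU 4 K4 2 (Rt C hF u)

/-- Commuting with an element of the extraspecial group. -/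
def Com (u : Subgroup.centralizer ({z} : Set G)) (x : Q) : Prop := (u : G) * gv x = gv x * (u : G)

theorem Rt_mk (g : ↥(KE C)) : Rt C hF g.1 = R C hF g := dif_pos g.2

theorem Rt_mul {g h : Subgroup.centralizer ({z} : Set G)} (hg : g ∈ KE C) (hh : h ∈ KE C) :
    Rt C hF (g * h) = Rt C hF g * Rt C hF h := by
  have h1 := Rt_mk C hF ((⟨g, hg⟩ : KE C) * ⟨h, hh⟩)
  rw [map_mul, ← Rt_mk C hF ⟨g, hg⟩, ← Rt_mk C hF ⟨h, hh⟩] at h1
  exact h1

theorem Rt_inv {g : Subgroup.centralizer ({z} : Set G)} (hg : g ∈ KE C) : Rt C hF g⁻¹ = (Rt C hF g)⁻¹ := by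
  have h1 := Rt_mk C hF (⟨g, hg⟩ : KE C)⁻¹
  rw [map_inv, ← Rt_mk C hF ⟨g, hg⟩] at h1
  exact h1

theorem Rt_Q {g : Subgroup.centralizer ({z} : Set G)} (hg : g ∈ Q) : Rt C hF g = 1 := by
  by_cases h : g ∈ KE C
  · rw [show g = ((⟨g, h⟩ : KE C) : Subgroup.centralizer ({z} : Set G)) from rfl, Rt_mk, R_apply]
    exact rho_Q m _ hg
  · exact dif_neg h

theorem Pi_piE (g : ↥(KE C)) : Pi C hF g.1 = piE C hF g := by
  rw [Pi, Rt_mk, R_apply]
  rfl

theorem Pi_one_iff {g : Subgroup.centralizer ({z} : Set G)} (hg : g ∈ KE C) : Pi C hF g = 1 ↔ g ∈ Q := by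
  rw [show g = ((⟨g, hg⟩ : KE C) : Subgroup.centralizer ({z} : Set G)) from rfl, Pi_piE]
  exact piE_eq_one C hF _

theorem Pi_conj {g u : Subgroup.centralizer ({z} : Set G)} (hg : g ∈ KE C) (hu : u ∈ KE C) :
    Pi C hF (g * u * g⁻¹) = Pi C hF g * Pi C hF u * (Pi C hF g)⁻¹ := by
  simp only [Pi]
  rw [Rt_mul C hF (mul_mem hg hu) (inv_mem hg), Rt_mul C hF hg hu, Rt_inv C hF hg, map_mul, map_mul, map_inv]

theorem gam_Rt {g : Subgroup.centralizer ({z} : Set G)} (hg : g ∈ KE C) {w : Fin 6 → K4} (hw : Pp m.k w) :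
    ∃ d : K4, d ≠ 0 ∧ gam m.k (m.act g w) = d • mv (Rt C hF g) (gam m.k w) := by
  rw [show g = ((⟨g, hg⟩ : KE C) : Subgroup.centralizer ({z} : Set G)) from rfl, Rt_mk]
  exact gam_R C hF ⟨g, hg⟩ hw

theorem gam_Rt_invol {g : Subgroup.centralizer ({z} : Set G)} (hg : g ∈ KE C) (h : g * g = 1) {w : Fin 6 → K4}
    (hw : Pp m.k w) : gam m.k (m.act g w) = mv (Rt C hF g) (gam m.k w) := by
  rw [show g = ((⟨g, hg⟩ : KE C) : Subgroup.centralizer ({z} : Set G)) from rfl, Rt_mk]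
  exact gam_R_invol C hF ⟨g, hg⟩ h hw

theorem Rt_fix {u : Subgroup.centralizer ({z} : Set G)} (hu : Mem C u) (hA : (u : G) ∈ C.A) {v : V4}
    (hv : (U0 C).On v) : mv (Rt C hF u) v = v := by
  rw [show u = ((⟨u, hu.ke⟩ : KE C) : Subgroup.centralizer ({z} : Set G)) from rfl, Rt_mk]
  exact R_fix_of_mem C hF ⟨u, hu.ke⟩ hA hv

theorem Rt_image {u : Subgroup.centralizer ({z} : Set G)} (hu : Mem C u) (hA : (u : G) ∈ C.A) (v : V4) :
    (U0 C).On (mv (Rt C hF u) v + v) := image_of_fix _ (fun _ h => Rt_fix C hF hu hA h) v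

/-- The twenty. -/
def X20 : Set (Subgroup.centralizer ({z} : Set G)) := {u | (u : G) ∈ C.A ∧ Mem C u}

theorem card_X20 : (X20 C).ncard = 20 := by
  classical
  obtain ⟨⟨hab, hac, haw⟩, ⟨hbc, hbw⟩, hcw⟩ := pts_facts C
  let S : Finset GolayPt := Finset.univ \ {C.a, C.b, C.c, C.w}
  have hS : S.card = 20 := by
    rw [Finset.card_sdiff, Finset.inter_univ, Finset.card_univ, Spor.Golay.card_golayPt]
    simp [hab, hac, haw, hbc, hbw, hcw]
  have hmem : ∀ x, x ∈ S ↔ [C.a, C.b, C.c, x].Nodup ∧ x ≠ C.w := fun x => by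
    simp [S, hab, hac, hbc]
    tauto
  let f : GolayPt → Subgroup.centralizer ({z} : Set G) := fun x =>
    ⟨C.val {C.a, C.b, C.c, x}, C.le (C.pic.pts.mem _)⟩
  have hX : X20 C = f '' ↑S := by
    ext u
    constructor
    · rintro ⟨hA, hu⟩
      obtain ⟨x, hx, e⟩ := hu.inX C hA
      refine ⟨x, Finset.mem_coe.2 ((hmem x).2 ⟨hx, fun h => hu.1 ?_⟩), Subtype.ext e.symm⟩
      rw [e, h, ← C.hz]
    · rintro ⟨x, hx, rfl⟩
      obtain ⟨hnd, hxw⟩ := (hmem x).1 (Finset.mem_coe.1 hx)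
      exact ⟨C.pic.pts.mem _, mem_of_inX C ⟨x, hnd, rfl⟩ (inX_ne C hnd hxw)⟩
  rw [hX, Set.InjOn.ncard_image, Set.ncard_coe_finset, hS]
  intro x hx y hy e
  by_contra hne
  have h := C.pic.mul_four hne ((hmem x).1 hx).1 ((hmem y).1 hy).1
  rw [show C.val {C.a, C.b, C.c, x} = C.val {C.a, C.b, C.c, y} from congrArg Subtype.val e,
    C.pic.pts.sq _ (C.pic.pts.mem _)] at h
  exact (C.pic.nc_pair hne).1 h.symm

/-- The twenty with the same image. -/
def Fib (u : Subgroup.centralizer ({z} : Set G)) : Set (Subgroup.centralizer ({z} : Set G)) :=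
  {v | v ∈ X20 C ∧ Pi C hF v = Pi C hF u}

include hF in
theorem trans_fib {u v : Subgroup.centralizer ({z} : Set G)} (hu : u ∈ X20 C) (hv : v ∈ X20 C) :
    (Fib C hF u).ncard ≤ (Fib C hF v).ncard := by
  classical
  obtain ⟨⟨hab, hac, haw⟩, ⟨hbc, hbw⟩, hcw⟩ := pts_facts C
  obtain ⟨hA, hmu⟩ := hu
  obtain ⟨hA', hmv⟩ := hv
  obtain ⟨x, hx, ex⟩ := hmu.inX C hA
  obtain ⟨y, hy, ey⟩ := hmv.inX C hA'
  have hxw : x ≠ C.w := fun h => hmu.1 (by rw [ex, h, ← C.hz])
  have hyw : y ≠ C.w := fun h => hmv.1 (by rw [ey, h, ← C.hz])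
  simp only [List.nodup_cons, List.mem_cons, List.not_mem_nil, or_false, not_or, List.nodup_nil, and_true,
    not_false_eq_true] at hx hy
  obtain ⟨n, hn, n1, n2, n3, n4⟩ := C.pic.move_five
    (a := C.a) (b := C.b) (c := C.c) (w := C.w) (x := x) (y := y)
    (by simp [hab, hac, haw, hbc, hbw, hcw, hx.1.2.2, hx.2.1.2, hx.2.2, Ne.symm hxw])
    (by simp [hab, hac, haw, hbc, hbw, hcw, hy.1.2.2, hy.2.1.2, hy.2.2, Ne.symm hyw])
  rw [← C.hz] at n3
  let g : Subgroup.centralizer ({z} : Set G) := ⟨n, Subgroup.mem_centralizer_singleton_iff.2 n3⟩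
  have hg : g ∈ KE C := (mem_KE_CE C).2 ((mem_CE C).2 ⟨by rw [C.he1]; exact n1, by rw [C.he2]; exact n2⟩)
  have hgu : g * u * g⁻¹ = v := Subtype.ext (by
    show n * (u : G) * n⁻¹ = (v : G)
    rw [ex, n4, ey])
  refine Set.ncard_le_ncard_of_injOn (fun a => g * a * g⁻¹) ?_
    (fun a _ b _ e => mul_left_cancel (mul_right_cancel e)) (Set.toFinite _)
  rintro a ⟨⟨haA, ham⟩, hpa⟩
  refine ⟨⟨(Subgroup.mem_normalizer_iff.1 hn _).1 haA, ham.conj C hg⟩, ?_⟩
  show Pi C hF (g * a * g⁻¹) = Pi C hF v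
  rw [← hgu, Pi_conj C hF hg ham.ke, Pi_conj C hF hg hmu.ke, hpa]

theorem inv_self {u : Subgroup.centralizer ({z} : Set G)} (hu : Mem C u) : (u : G)⁻¹ = (u : G) :=
  inv_eq_of_mul_eq_one_right (congrArg Subtype.val hu.sq)

theorem act_fix_of_com {u : Subgroup.centralizer ({z} : Set G)} {x : Q} (h : Com u x) :
    m.act u (m.rep x) = m.rep x := by
  rw [m.act_rep]
  exact congrArg m.rep (Subtype.ext (Subtype.ext (mul_inv_eq_iff_eq_mul.2 h)))

include hF in
/-- The shift along the image. -/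
theorem exists_shift {u : Subgroup.centralizer ({z} : Set G)} (hu : u ∈ X20 C) {x : Q} (hx : Pp m.k (m.rep x)) :
    ∃ v ∈ Fib C hF u, ∃ q : Q, gv q = (u : G) * (v : G) ∧ Pp m.k (m.rep q) ∧
      gq m q = mv (Rt C hF u) (gq m x) + gq m x ∧ (v : G) = gv x * (u : G) * (gv x)⁻¹ := by
  obtain ⟨hA, hm⟩ := hu
  have hxK : (x : Subgroup.centralizer ({z} : Set G)) ∈ KE C := (q_mem_KE C x).2 hx
  have hq : m.rep (qconj u x * x⁻¹) = m.act u (m.rep x) + m.rep x := by rw [m.rep_mul, m.rep_inv, ← m.act_rep]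
  have hgv : gv (qconj u x * x⁻¹) = (u : G) * (gv x * (u : G) * (gv x)⁻¹) := by
    show (u : G) * gv x * (u : G)⁻¹ * (gv x)⁻¹ = _
    rw [inv_self C hm]; simp only [mul_assoc]
  have hp : Pp m.k (m.rep (qconj u x * x⁻¹)) := by
    rw [hq]; exact pp_add (pp_act m (KE_le C hF hm.ke) hx) hx
  have hg : gq m (qconj u x * x⁻¹) = mv (Rt C hF u) (gq m x) + gq m x := by
    show gam m.k (m.rep _) = _
    rw [hq, gam_add, gam_Rt_invol C hF hm.ke hm.sq hx]
  have hqA : gv (qconj u x * x⁻¹) ∈ C.A := C.qu_mem _ (sp_of_on C hp (by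
    rw [show gam m.k (m.rep _) = _ from hg]; exact Rt_image C hF hm hA _))
  refine ⟨(x : Subgroup.centralizer ({z} : Set G)) * u * (x : Subgroup.centralizer ({z} : Set G))⁻¹,
    ⟨⟨?_, hm.conj C hxK⟩, ?_⟩, _, hgv, hp, hg, rfl⟩
  · have h := mul_mem (inv_mem hA) hqA
    rw [hgv, inv_mul_cancel_left] at h
    exact h
  · rw [Pi_conj C hF hxK hm.ke, (Pi_one_iff C hF hxK).2 x.2, one_mul, inv_one, mul_one]

include hF in
theorem exists_diff {u v : Subgroup.centralizer ({z} : Set G)} (hu : u ∈ X20 C) (hv : v ∈ Fib C hF u) :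
    ∃ q : Q, gv q = (u : G) * (v : G) ∧ Pp m.k (m.rep q) ∧ gv q ∈ C.A := by
  obtain ⟨hA, hm⟩ := hu
  obtain ⟨⟨hA', hm'⟩, hp⟩ := hv
  have hK := mul_mem (inv_mem hm.ke) hm'.ke
  have hQ : u⁻¹ * v ∈ Q := by
    rw [← Pi_one_iff C hF hK, Pi, Rt_mul C hF (inv_mem hm.ke) hm'.ke, Rt_inv C hF hm.ke, map_mul, map_inv]
    show (Pi C hF u)⁻¹ * Pi C hF v = 1
    rw [hp, inv_mul_cancel]
  have e : gv (⟨_, hQ⟩ : Q) = (u : G) * (v : G) := by
    show (u : G)⁻¹ * (v : G) = _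
    rw [inv_self C hm]
  exact ⟨⟨_, hQ⟩, e, (q_mem_KE C _).1 hK, by rw [e]; exact mul_mem hA hA'⟩

theorem diff_unique {u v : Subgroup.centralizer ({z} : Set G)} {q q' : Q} (h : gv q = (u : G) * (v : G))
    (h' : gv q' = (u : G) * (v : G)) : q = q' := Subtype.ext (Subtype.ext (h.trans h'.symm))

include hF in
theorem fib_inj {u v v' : Subgroup.centralizer ({z} : Set G)} (hu : u ∈ X20 C) (hv : v ∈ Fib C hF u)
    (hv' : v' ∈ Fib C hF u) {q q' : Q} (h : gv q = (u : G) * (v : G)) (h' : gv q' = (u : G) * (v' : G))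
    (hp : Pp m.k (m.rep q)) (hp' : Pp m.k (m.rep q')) (e : gq m q = gq m q') : v = v' := by
  have hA := C.pic.comm _ hu.1 _ hv.1.1
  refine Subtype.ext (inX_unique C (hv.1.2.inX C hv.1.1) (hv'.1.2.inX C hv'.1.1) (q * q') ?_ ?_ ?_)
  · show gv q * gv q' = _
    rw [h, h', hA, mul_assoc, ← mul_assoc (u : G), show (u : G) * (u : G) = 1 from congrArg Subtype.val hu.2.sq,
      one_mul]
  · rw [m.rep_mul]; exact pp_add hp hp'
  · rw [m.rep_mul, gam_add, show gam m.k (m.rep q) = gam m.k (m.rep q') from e, add_self4]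

include hF in
theorem fib_le {u : Subgroup.centralizer ({z} : Set G)} (hu : u ∈ X20 C) (S : Set V4)
    (hS : ∀ v ∈ Fib C hF u, ∀ q : Q, gv q = (u : G) * (v : G) → Pp m.k (m.rep q) → gv q ∈ C.A → gq m q ∈ S) :
    (Fib C hF u).ncard ≤ S.ncard := by
  classical
  choose q h1 h2 h3 using fun v : Fib C hF u => exists_diff C hF hu v.2
  refine Set.ncard_le_ncard_of_injOn (fun v => if h : v ∈ Fib C hF u then gq m (q ⟨v, h⟩) else 0) ?_ ?_ (Set.toFinite _)
  · intro v hv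
    simp only [dif_pos hv]
    exact hS v hv _ (h1 _) (h2 _) (h3 _)
  · intro v hv v' hv' e
    simp only [dif_pos hv, dif_pos hv'] at e
    exact fib_inj C hF hu hv hv' (h1 _) (h1 _) (h2 _) (h2 _) e

include hF in
theorem fib_ge {u : Subgroup.centralizer ({z} : Set G)} (hu : u ∈ X20 C) (S : Set V4)
    (hS : ∀ t ∈ S, ∃ x : V4, t = mv (Rt C hF u) x + x) : S.ncard ≤ (Fib C hF u).ncard := by
  classical
  have h : ∀ t : S, ∃ v ∈ Fib C hF u, ∃ q : Q, gv q = (u : G) * (v : G) ∧ gq m q = t.1 := fun t => by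
    obtain ⟨x, hx⟩ := hS t.1 t.2
    obtain ⟨x', hx'⟩ := m.rep_surj (up m.k x)
    obtain ⟨v, hv, q, h1, -, h3, -⟩ := exists_shift C hF hu (x := x') (hx' ▸ pp_up m.hk x)
    exact ⟨v, hv, q, h1, by rw [h3, gq, hx', gam_up m.hk, hx]⟩
  choose v hv q h1 h2 using h
  refine Set.ncard_le_ncard_of_injOn (fun t => if h : t ∈ S then v ⟨t, h⟩ else 1) ?_ ?_ (Set.toFinite _)
  · intro t ht
    simp only [dif_pos ht]; exact hv _
  · intro t ht t' ht' e
    simp only [dif_pos ht, dif_pos ht'] at e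
    have hq := diff_unique (u := u) (h1 ⟨t, ht⟩) (e ▸ h1 ⟨t', ht'⟩)
    exact (h2 ⟨t, ht⟩).symm.trans ((congrArg (gq m) hq).trans (h2 ⟨t', ht'⟩))

include hF in
/-- Commutation is read off the four coordinates. -/
theorem com_iff_A {u : Subgroup.centralizer ({z} : Set G)} (hu : u ∈ X20 C) {x : Q} (hx : Pp m.k (m.rep x)) :
    Com u x ↔ mv (Rt C hF u) (gq m x) = gq m x := by
  obtain ⟨hA, hm⟩ := hu
  constructor
  · intro h
    rw [← gam_Rt_invol C hF hm.ke hm.sq hx, act_fix_of_com h]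
  · intro h
    obtain ⟨v, hv, q, hq, hp, hg, hv'⟩ := exists_shift C hF ⟨hA, hm⟩ hx
    rw [h, add_self4] at hg
    have e := inX_unique C (hm.inX C hA) (hv.1.2.inX C hv.1.1) q hq hp hg
    rw [hv'] at e
    exact eq_mul_inv_iff_mul_eq.1 e

theorem inX_uz {u : Subgroup.centralizer ({z} : Set G)} (hu : u ∈ X20 C) {x : Q}
    (hx : (x : Subgroup.centralizer ({z} : Set G)) ∈ KE C)
    (e : gv x * (u : G) * (gv x)⁻¹ = (u : G) * z) : InX C ((u : G) * z) := by
  rw [← e]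
  refine (hu.2.conj C hx).inX C ?_
  show gv x * (u : G) * (gv x)⁻¹ ∈ C.A
  rw [e]; exact mul_mem hu.1 C.pic.zA

include hF in
theorem not_Q {u : Subgroup.centralizer ({z} : Set G)} (hu : u ∈ X20 C) : u ∉ Q := by
  intro hQ
  obtain ⟨hA, hm⟩ := hu
  set q : Q := ⟨u, hQ⟩
  have hp : Pp m.k (m.rep q) := (q_mem_KE C q).1 hm.ke
  obtain ⟨zq, hzq, -⟩ := LargeFischerLocal.exists_zQ m
  have hz0 : m.rep zq = 0 := LargeFischerAbelian.rep_z m zq hzq
  by_cases h0 : gq m q = 0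
  · refine hm.1 (inX_unique C (hm.inX C hA) (inX_z C) (q * zq) ?_ ?_ ?_)
    · show (u : G) * gv zq = _; rw [hzq]
    · rw [m.rep_mul, hz0, add_zero]; exact hp
    · rw [m.rep_mul, hz0, add_zero]; exact h0
  obtain ⟨x0, hx0, -⟩ := fH_sep (v := gq m q) (w := 0) fun a e => h0 (by rw [e, smul_zero])
  obtain ⟨x, hx⟩ := m.rep_surj (up m.k (ω • x0))
  have hpx : Pp m.k (m.rep x) := hx ▸ pp_up m.hk _
  have hiso : hermForm 6 K4 2 (m.rep q) (m.rep q) = 0 := (m.herm_zero q).2 (Subtype.ext hm.sq)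
  have hne : ¬ gv x * (u : G) * (gv x)⁻¹ = (u : G) := fun e => by
    have := (comm_iff m x q hiso).1 (Subtype.ext (Subtype.ext (mul_inv_eq_iff_eq_mul.1 e)))
    rw [herm_gam m.hk hpx hp, hx, gam_up m.hk, fH_smul_left, show fH x0 (gam m.k (m.rep q)) = 1 from hx0] at this
    revert this; decide +kernel
  have hcase := conj_cases (u := (x : Subgroup.centralizer ({z} : Set G))) (x := q) ((m.act_ker _).2 x.2 _)
  have e := hcase.resolve_left hne
  have huu : (u : G) * (u : G) = 1 := congrArg Subtype.val hm.sq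
  have := inX_unique C (hm.inX C hA) (inX_uz C ⟨hA, hm⟩ ((q_mem_KE C x).2 hpx) e) zq
    (by rw [hzq, ← mul_assoc, huu, one_mul]) (by rw [hz0, Pp]; simp [hermForm])
    (by rw [hz0]; exact gam_zero)
  exact m.ext.ne (left_eq_mul.1 this)

include hF in
theorem ncard_line : {t : V4 | (U0 C).On t}.ncard = 16 := by
  rw [show {t : V4 | (U0 C).On t} = Set.range fun p : K4 × K4 => p.1 • (U0 C).x + p.2 • (U0 C).y from
    Set.ext fun t => ⟨fun ⟨a, b, e⟩ => ⟨(a, b), e.symm⟩, fun ⟨p, e⟩ => ⟨p.1, p.2, e.symm⟩⟩,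
    Set.ncard_range_of_injective, Nat.card_eq_fintype_card, Fintype.card_prod, hK4]
  rintro ⟨a, b⟩ ⟨c, d⟩ e
  have := (U0 C).indep (a + c) (b + d) (by
    simp only at e
    rw [add_smul, add_smul, show a • (U0 C).x + c • (U0 C).x + (b • (U0 C).y + d • (U0 C).y) =
      (a • (U0 C).x + b • (U0 C).y) + (c • (U0 C).x + d • (U0 C).y) by abel, e, add_self4])
  have hs : ∀ a b : K4, a + b = 0 → a = b := by decide +kernel
  rw [hs _ _ this.1, hs _ _ this.2]

include hF in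
/-- The image of a member of the twenty is a transvection at a point of the line. -/
theorem centre_A {u : Subgroup.centralizer ({z} : Set G)} (hu : u ∈ X20 C) :
    ∃ (r : V4) (hr : fH r r = 0), r ≠ 0 ∧ (U0 C).On r ∧ Rt C hF u = tv hK4 hr := by
  obtain ⟨hA, hm⟩ := hu
  have hne : Rt C hF u ≠ 1 := fun e => not_Q C hF ⟨hA, hm⟩ ((Pi_one_iff C hF hm.ke).1 (by rw [Pi, e, map_one]))
  obtain ⟨x0, hx0⟩ : ∃ x, mv (Rt C hF u) x + x ≠ 0 := by
    by_contra hc
    push Not at hc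
    exact hne (suVal_ext (Matrix.ext_iff_mulVec.2 fun x => (eq_of_add4 (hc x)).trans (Matrix.one_mulVec x).symm))
  set r := mv (Rt C hF u) x0 + x0 with hr
  have hon : (U0 C).On r := Rt_image C hF hm hA x0
  by_cases hall : ∀ y, ∃ a : K4, mv (Rt C hF u) y + y = a • r
  · refine ⟨r, (U0 C).herm hon hon, hx0, hon, tv_of_point _ hne _ hx0 fun v => ?_⟩
    obtain ⟨a, ha⟩ := hall v
    exact ⟨a, by rw [← ha, add_left_comm, add_self4, add_zero]⟩
  exfalso
  push Not at hall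
  obtain ⟨y0, hy0⟩ := hall
  set s := mv (Rt C hF u) y0 + y0 with hs
  have hon' : (U0 C).On s := Rt_image C hF hm hA y0
  let L : Line := mkLine ((U0 C).herm hon hon) ((U0 C).herm hon' hon') ((U0 C).herm hon hon') hx0 hy0
  have hsame := (U0 C).same L hon hon'
  have h16 : ∀ v ∈ X20 C, (Fib C hF v).ncard = 16 := by
    have h1 : (Fib C hF u).ncard = 16 := by
      refine le_antisymm ?_ ?_
      · rw [← ncard_line C hF]
        exact fib_le C hF ⟨hA, hm⟩ _ fun v _ q _ hp hqA => on_of_mem C hqA hp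
      · rw [← ncard_line C hF]
        refine fib_ge C hF ⟨hA, hm⟩ _ fun t ht => ?_
        obtain ⟨a, b, rfl⟩ := (hsame t).1 ht
        refine ⟨a • x0 + b • y0, ?_⟩
        show a • r + b • s = _
        rw [hr, hs, smul_add, smul_add]
        show _ = suVal (Rt C hF u) *ᵥ _ + _
        rw [Matrix.mulVec_add, Matrix.mulVec_smul, Matrix.mulVec_smul]
        abel
    intro v hv
    exact le_antisymm (h1 ▸ trans_fib C hF hv ⟨hA, hm⟩) (h1 ▸ trans_fib C hF ⟨hA, hm⟩ hv)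
  by_cases hone : ∀ v ∈ X20 C, Pi C hF v = Pi C hF u
  · have : Fib C hF u = X20 C := Set.ext fun v => ⟨fun h => h.1, fun h => ⟨h, hone v h⟩⟩
    have h := h16 u ⟨hA, hm⟩
    rw [this, card_X20 C] at h
    omega
  · push Not at hone
    obtain ⟨v, hv, hvu⟩ := hone
    have hd : Disjoint (Fib C hF u) (Fib C hF v) :=
      Set.disjoint_left.2 fun a ha hb => hvu (hb.2.symm.trans ha.2)
    have h := Set.ncard_le_ncard (Set.union_subset (fun a h => h.1) (fun a h => h.1) :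
      Fib C hF u ∪ Fib C hF v ⊆ X20 C) (Set.toFinite _)
    rw [Set.ncard_union_eq hd (Set.toFinite _) (Set.toFinite _), h16 u ⟨hA, hm⟩, h16 v hv, card_X20 C] at h
    omega

include hF in
theorem fib_four {u : Subgroup.centralizer ({z} : Set G)} (hu : u ∈ X20 C) : (Fib C hF u).ncard = 4 := by
  obtain ⟨r, hr, hr0, hon, hR⟩ := centre_A C hF hu
  have hS : {t : V4 | ∃ a : K4, t = a • r}.ncard = 4 := by
    rw [show {t : V4 | ∃ a : K4, t = a • r} = Set.range fun a : K4 => a • r from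
      Set.ext fun t => ⟨fun ⟨a, e⟩ => ⟨a, e.symm⟩, fun ⟨a, e⟩ => ⟨a, e.symm⟩⟩,
      Set.ncard_range_of_injective (smul_left_injective K4 hr0), Nat.card_eq_fintype_card]
    exact hK4
  refine le_antisymm ?_ ?_ <;> rw [← hS]
  · refine fib_le C hF hu _ fun v hv q hq hp hqA => ?_
    refine perp_perp fun x hx => ?_
    refine fH_zero (trace_all fun b => ?_)
    have hb : ∀ b : K4, (b ^ 2) ^ 2 = b := by decide +kernel
    obtain ⟨y, hy⟩ := m.rep_surj (up m.k (b ^ 2 • x))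
    have hpy : Pp m.k (m.rep y) := hy ▸ pp_up m.hk _
    have hgy : gq m y = b ^ 2 • x := by rw [gq, hy, gam_up m.hk]
    have hRv : Rt C hF v = Rt C hF u := by
      have hQ : gv q = (u : G) * (v : G) := hq
      have : v = u * (q : Subgroup.centralizer ({z} : Set G)) := Subtype.ext (by
        show (v : G) = (u : G) * gv q
        rw [hQ, ← mul_assoc, show (u : G) * (u : G) = 1 from congrArg Subtype.val hu.2.sq, one_mul])
      rw [this, Rt_mul C hF hu.2.ke ((q_mem_KE C q).2 hp), Rt_Q C hF q.2, mul_one]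
    have hfix : mv (Rt C hF u) (gq m y) = gq m y := by
      rw [hR, tv_fix_iff hr hr0, hgy, fH_smul_left, hx, mul_zero]
    have c1 : Com u y := (com_iff_A C hF hu hpy).2 hfix
    have c2 : Com v y := (com_iff_A C hF hv.1 hpy).2 (hRv ▸ hfix)
    have hcomm : y * q = q * y := Subtype.ext (Subtype.ext (by
      show gv y * gv q = gv q * gv y
      rw [hq, ← mul_assoc, ← show (u : G) * gv y = gv y * (u : G) from c1, mul_assoc, ← show (v : G) * gv y = gv y * (v : G) from c2,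
        mul_assoc]))
    have hiso : hermForm 6 K4 2 (m.rep q) (m.rep q) = 0 := (m.herm_zero q).2 (Subtype.ext (Subtype.ext (by
      show gv q * gv q = 1
      exact C.pic.pts.sq _ hqA)))
    have h := (comm_iff m y q hiso).1 hcomm
    rw [herm_gam m.hk hpy hp, show gam m.k (m.rep y) = b ^ 2 • x from hgy, fH_swap (gam m.k (m.rep q)) _] at h
    have ht : ∀ h : K4, h ^ 2 + (h ^ 2) ^ 2 = 0 → h + h ^ 2 = 0 := by decide +kernel
    have := ht _ h
    rwa [fH_smul_right, hb] at this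
  · refine fib_ge C hF hu _ ?_
    rintro t ⟨a, rfl⟩
    obtain ⟨y, -, hy⟩ := exists_unit hr0
    refine ⟨a • y, ?_⟩
    rw [hR, mv_tv, fH_smul_left, hy, mul_one, add_comm (a • y + a • r), ← add_assoc, add_self4, zero_add]

include hF in
/-- Every point of the line is a centre. -/
theorem exists_centre {p : V4} (hp : (U0 C).On p) (hp0 : p ≠ 0) :
    ∃ u ∈ X20 C, Rt C hF u = tv hK4 ((U0 C).herm hp hp) := by
  classical
  by_contra hcon
  push Not at hcon
  obtain ⟨L, hL, hsame⟩ := (U0 C).reparam hp hp0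
  haveI : Fintype (Subgroup.centralizer ({z} : Set G)) := Fintype.ofFinite _
  have hon : ∀ c : K4, fH (c • L.x + L.y) (c • L.x + L.y) = 0 := fun c =>
    L.herm (L.on_add (L.on_smul c L.x_on) L.y_on) (L.on_add (L.on_smul c L.x_on) L.y_on)
  let T : Finset Q4 := Finset.univ.image fun c : K4 => root hK4 (hon c)
  set S := (X20 C).toFinset with hS
  have himg : S.image (Pi C hF) ⊆ T := by
    intro e he
    obtain ⟨u, hu, rfl⟩ := Finset.mem_image.1 he
    rw [hS, Set.mem_toFinset] at hu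
    obtain ⟨r, hr, hr0, honr, hR⟩ := centre_A C hF hu
    obtain ⟨a, b, hab⟩ := (hsame r).2 honr
    have hb : b ≠ 0 := by
      rintro rfl
      rw [zero_smul, add_zero, hL] at hab
      refine hcon u hu (hR.trans (tv_scale _ _ ?_ hab))
      rintro rfl
      exact hr0 (by rw [hab, zero_smul])
    refine Finset.mem_image.2 ⟨b⁻¹ * a, Finset.mem_univ _, ?_⟩
    show suToPSU 4 K4 2 (tv hK4 (hon _)) = Pi C hF u
    rw [Pi, hR, tv_scale (hon (b⁻¹ * a)) hr hb (by rw [hab, smul_add, smul_smul, ← mul_assoc, mul_inv_cancel₀ hb, one_mul])]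
  have hT : T.card ≤ 4 := Finset.card_image_le.trans (le_of_eq (by rw [Finset.card_univ, hK4]))
  have hle := Finset.card_le_mul_card_image S 4 (f := Pi C hF) fun e he => by
    obtain ⟨u, hu, rfl⟩ := Finset.mem_image.1 he
    rw [hS, Set.mem_toFinset] at hu
    refine le_of_le_of_eq ?_ (fib_four C hF hu)
    rw [← Set.ncard_coe_finset]
    refine Set.ncard_le_ncard (fun v hv => ?_) (Set.toFinite _)
    rw [Finset.mem_coe, Finset.mem_filter, hS, Set.mem_toFinset] at hv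
    exact hv
  have h20 : S.card = 20 := by rw [hS, ← Set.ncard_eq_toFinset_card', card_X20 C]
  have := Finset.card_le_card himg
  omega

include hF in
/-- Every member has a centre. -/
theorem centre {u : Subgroup.centralizer ({z} : Set G)} (hu : Mem C u) :
    ∃ (r : V4) (hr : fH r r = 0), r ≠ 0 ∧ Rt C hF u = tv hK4 hr := by
  obtain ⟨g, hg, hA⟩ := exists_into C hF hu
  obtain ⟨r, hr, hr0, -, hR⟩ := centre_A C hF (u := g * u * g⁻¹) ⟨hA, hu.conj C hg⟩
  rw [Rt_mul C hF (mul_mem hg hu.ke) (inv_mem hg), Rt_mul C hF hg hu.ke, Rt_inv C hF hg] at hR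
  have hr' : fH (mv (Rt C hF g)⁻¹ r) (mv (Rt C hF g)⁻¹ r) = 0 := by rw [fH_mv]; exact hr
  refine ⟨_, hr', fun e => hr0 ?_, ?_⟩
  · rw [← mv_inv_cancel (Rt C hF g) r, e]
    exact Matrix.mulVec_zero _
  · rw [← tv_conj _ hr hr', ← hR]; group

include hF in
theorem com_iff {u : Subgroup.centralizer ({z} : Set G)} (hu : Mem C u) {r : V4} {hr : fH r r = 0} (hr0 : r ≠ 0)
    (hR : Rt C hF u = tv hK4 hr) {x : Q} (hx : Pp m.k (m.rep x)) : Com u x ↔ fH (gq m x) r = 0 := by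
  obtain ⟨g, hg, hA⟩ := exists_into C hF hu
  have hx' : Pp m.k (m.rep (qconj g x)) := by rw [← m.act_rep]; exact pp_act m (KE_le C hF hg) hx
  have hr' : fH (mv (Rt C hF g) r) (mv (Rt C hF g) r) = 0 := by rw [fH_mv]; exact hr
  have hR' : Rt C hF (g * u * g⁻¹) = tv hK4 hr' := by
    rw [Rt_mul C hF (mul_mem hg hu.ke) (inv_mem hg), Rt_mul C hF hg hu.ke, Rt_inv C hF hg, hR, tv_conj _ hr hr']
  have hr0' : mv (Rt C hF g) r ≠ 0 := fun e => hr0 (PSUAut.su_injective _ e)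
  have h1 : Com u x ↔ Com (g * u * g⁻¹) (qconj g x) := by
    show (u : G) * gv x = gv x * (u : G) ↔ (g : G) * (u : G) * (g : G)⁻¹ * ((g : G) * gv x * (g : G)⁻¹) =
      (g : G) * gv x * (g : G)⁻¹ * ((g : G) * (u : G) * (g : G)⁻¹)
    constructor
    · intro h
      calc _ = (g : G) * ((u : G) * gv x) * (g : G)⁻¹ := by group
        _ = (g : G) * (gv x * (u : G)) * (g : G)⁻¹ := by rw [h]
        _ = _ := by group
    · intro h
      calc (u : G) * gv x = (g : G)⁻¹ * ((g : G) * (u : G) * (g : G)⁻¹ * ((g : G) * gv x * (g : G)⁻¹)) * g := by group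
        _ = (g : G)⁻¹ * ((g : G) * gv x * (g : G)⁻¹ * ((g : G) * (u : G) * (g : G)⁻¹)) * g := by rw [h]
        _ = _ := by group
  obtain ⟨d, hd, hgd⟩ := gam_Rt C hF hg hx
  rw [m.act_rep] at hgd
  rw [h1, com_iff_A C hF (u := g * u * g⁻¹) ⟨hA, hu.conj C hg⟩ hx', hR', tv_fix_iff hr' hr0',
    show gq m (qconj g x) = _ from hgd, fH_smul_left, fH_mv, mul_eq_zero, or_iff_right hd]

include hF in
/-- A member with centre on the line is in the group. -/
theorem into_centre {u : Subgroup.centralizer ({z} : Set G)} (hu : Mem C u) {r : V4} {hr : fH r r = 0} (hr0 : r ≠ 0)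
    (hR : Rt C hF u = tv hK4 hr) (hon : (U0 C).On r) : (u : G) ∈ C.A :=
  C.into u (KE_le C hF hu.ke).2 fun _ hx =>
    (com_iff C hF hu hr0 hR (sp_facts C hx).1).2 ((U0 C).herm (sp_facts C hx).2 hon)

include hF in
theorem exists_line_conj (L : Line) :
    ∃ g ∈ KE C, ∀ v, L.On v → (U0 C).On (mv (Rt C hF g) v) := by
  obtain ⟨g, hg, hc⟩ := exists_carry C hF L (U0 C)
  refine ⟨g.1, hg, fun v hv => ?_⟩
  have hp := pp_up m.hk v
  obtain ⟨d, hd, e⟩ := gam_Rt C hF hg hp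
  have := (U0 C).on_smul d⁻¹ (hc _ hp ((gam_up m.hk v).symm ▸ hv))
  rwa [e, gam_up m.hk, inv_smul_smul₀ hd] at this

include hF in
theorem pi_mem {u : Subgroup.centralizer ({z} : Set G)} (hu : Mem C u) : Pi C hF u ∈ roots hK4 4 := by
  obtain ⟨r, hr, hr0, hR⟩ := centre C hF hu
  exact ⟨r, hr0, hr, by rw [Pi, hR]; rfl⟩

include hF in
theorem fibre_card {e : Q4} (he : e ∈ roots hK4 4) :
    {u : Subgroup.centralizer ({z} : Set G) | Mem C u ∧ Pi C hF u = e}.ncard = 4 := by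
  obtain ⟨r, hr0, hr, rfl⟩ := he
  obtain ⟨L, hL⟩ := thru hr hr0
  obtain ⟨g, hg, hmove⟩ := exists_line_conj C hF L
  set r1 := mv (Rt C hF g) r with hr1
  have hon : (U0 C).On r1 := hmove r (hL ▸ L.x_on)
  have hr10 : r1 ≠ 0 := fun h => hr0 (PSUAut.su_injective _ h)
  obtain ⟨u, hu, hR⟩ := exists_centre C hF hon hr10
  have hroot : Pi C hF g * root hK4 hr * (Pi C hF g)⁻¹ = Pi C hF u := by
    show suToPSU 4 K4 2 _ * suToPSU 4 K4 2 _ * (suToPSU 4 K4 2 _)⁻¹ = suToPSU 4 K4 2 _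
    rw [← map_inv, ← map_mul, ← map_mul, tv_conj _ hr ((U0 C).herm hon hon), hR]
  refine Eq.trans ?_ (fib_four C hF hu)
  rw [← Set.ncard_image_of_injective _ (show Function.Injective (fun a => g * a * g⁻¹) from
    fun a b e => mul_left_cancel (mul_right_cancel e))]
  congr 1
  ext v
  constructor
  · rintro ⟨a, ⟨ha, hpa⟩, rfl⟩
    have hm := ha.conj C hg
    have hp : Pi C hF (g * a * g⁻¹) = Pi C hF u := by rw [Pi_conj C hF hg ha.ke, hpa, hroot]
    obtain ⟨r', hr', hr0', hR'⟩ := centre C hF hm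
    have heq : root hK4 hr' = root hK4 ((U0 C).herm hon hon) := by
      show suToPSU 4 K4 2 _ = suToPSU 4 K4 2 _
      rw [← hR', ← hR]; exact hp
    obtain ⟨c, hc, e⟩ := root_eq hK4 (by norm_num) hr' ((U0 C).herm hon hon) hr0' heq
    exact ⟨⟨into_centre C hF hm hr0' hR' (e ▸ (U0 C).on_smul c hon), hm⟩, hp⟩
  · rintro ⟨⟨-, hm⟩, hp⟩
    refine ⟨g⁻¹ * v * g⁻¹⁻¹, ⟨hm.conj C (inv_mem hg), ?_⟩, by group⟩
    rw [Pi_conj C hF (inv_mem hg) hm.ke, hp, ← hroot,
      show Pi C hF g⁻¹ = (Pi C hF g)⁻¹ by simp only [Pi, Rt_inv C hF hg, map_inv]]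
    group

include hF in
theorem comm_members {u v : Subgroup.centralizer ({z} : Set G)} (hu : Mem C u) (hv : Mem C v)
    (h : Commute (Pi C hF u) (Pi C hF v)) : u * v = v * u := by
  obtain ⟨r, hr, hr0, hR⟩ := centre C hF hu
  obtain ⟨r', hr', hr0', hR'⟩ := centre C hF hv
  rw [Pi, Pi, hR, hR'] at h
  obtain ⟨L, h1, h2⟩ := through_two hr hr' ((root_commute hK4 (by norm_num) hr hr' hr0 hr0').1 h) hr0
  obtain ⟨g, hg, hmove⟩ := exists_line_conj C hF L
  have key : ∀ {a : Subgroup.centralizer ({z} : Set G)}, Mem C a → ∀ {t : V4} {ht : fH t t = 0}, t ≠ 0 → L.On t →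
      Rt C hF a = tv hK4 ht → ((g * a * g⁻¹ : Subgroup.centralizer ({z} : Set G)) : G) ∈ C.A := by
    intro a ha t ht ht0 hLt hRa
    have ht' : fH (mv (Rt C hF g) t) (mv (Rt C hF g) t) = 0 := by rw [fH_mv]; exact ht
    exact into_centre C hF (ha.conj C hg) (hr := ht') (fun e => ht0 (PSUAut.su_injective _ e))
      (by rw [Rt_mul C hF (mul_mem hg ha.ke) (inv_mem hg), Rt_mul C hF hg ha.ke, Rt_inv C hF hg, hRa, tv_conj])
      (hmove t hLt)
  have hc := C.pic.comm _ (key hu hr0 h1 hR) _ (key hv hr0' h2 hR')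
  have hc' : g * u * g⁻¹ * (g * v * g⁻¹) = g * v * g⁻¹ * (g * u * g⁻¹) := Subtype.ext hc
  rw [show g * u * g⁻¹ * (g * v * g⁻¹) = g * (u * v) * g⁻¹ by group,
    show g * v * g⁻¹ * (g * u * g⁻¹) = g * (v * u) * g⁻¹ by group] at hc'
  exact mul_left_cancel (mul_right_cancel hc')

end Cfsg.Agent.Fus.U62Four
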