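/-
The centraliser of the four-group modulo it satisfies the recognition hypotheses of `U₆(2)`.
-/
import Cfsg.Agent.Lib.Fus.U62Four.Fibres

set_option autoImplicit false
set_option maxRecDepth 100000
set_option linter.unusedSectionVars false
set_option linter.unusedSimpArgs false
set_option linter.style.haveILetI false

open Cfsg Cfsg.Agent.Classical Cfsg.Agent.Spor.LargeFischer Matrix
open Cfsg.Agent.Spor.USixTwo (K4)
open Cfsg.Agent.Fus.LargeFischerScalar
open Cfsg.Agent.Fus.U62Rec (Q4 CC Setting)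
open Cfsg.Agent.Block.FischerTypes.U6 (roots)
open scoped symmDiff

namespace Cfsg.Agent.Fus.U62Four

variable {G : Type*} [Group G] [Finite G] {z : G} {Q : Subgroup (Subgroup.centralizer ({z} : Set G))}
  [hQn : Q.Normal] {m : Model z Q} (C : Ctx m)

theorem e_sq : gv C.e1 * gv C.e1 = 1 ∧ gv C.e2 * gv C.e2 = 1 ∧ gv C.e1 * gv C.e2 = gv C.e2 * gv C.e1 := by
  rw [C.he1, C.he2]
  exact ⟨C.pic.pts.sq _ (C.pic.pts.mem _), C.pic.pts.sq _ (C.pic.pts.mem _),
    C.pic.comm _ (C.pic.pts.mem _) _ (C.pic.pts.mem _)⟩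

/-- The four-group. -/
def EG : Subgroup G where
  carrier := {g | g = 1 ∨ g = gv C.e1 ∨ g = gv C.e2 ∨ g = gv C.e1 * gv C.e2}
  one_mem' := Or.inl rfl
  mul_mem' := fun {x y} hx hy => by
    obtain ⟨h1, h2, h3⟩ := e_sq C
    have a1 : ∀ g, gv C.e1 * (gv C.e1 * g) = g := fun g => by rw [← mul_assoc, h1, one_mul]
    have a2 : ∀ g, gv C.e2 * (gv C.e2 * g) = g := fun g => by rw [← mul_assoc, h2, one_mul]
    have a3 : gv C.e2 * (gv C.e1 * gv C.e2) = gv C.e1 := by rw [h3, a2]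
    rcases hx with rfl | rfl | rfl | rfl <;> rcases hy with rfl | rfl | rfl | rfl <;>
      simp only [one_mul, mul_one, Set.mem_ofPred_eq, h1, h2, h3.symm, a1, a2, a3, mul_assoc, true_or, or_true]
  inv_mem' := fun {x} hx => by
    obtain ⟨h1, h2, h3⟩ := e_sq C
    have i1 : (gv C.e1)⁻¹ = gv C.e1 := inv_eq_of_mul_eq_one_right h1
    have i2 : (gv C.e2)⁻¹ = gv C.e2 := inv_eq_of_mul_eq_one_right h2
    rcases hx with rfl | rfl | rfl | rfl
    · exact Or.inl inv_one
    · exact Or.inr (Or.inl i1)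
    · exact Or.inr (Or.inr (Or.inl i2))
    · exact Or.inr (Or.inr (Or.inr (by rw [_root_.mul_inv_rev, i1, i2, h3])))

theorem mem_EG {g : G} : g ∈ EG C ↔ g = 1 ∨ g = gv C.e1 ∨ g = gv C.e2 ∨ g = gv C.e1 * gv C.e2 := Iff.rfl

theorem EG_eq : EG C = Subgroup.closure {gv C.e1, gv C.e2} := by
  refine le_antisymm (fun g hg => ?_) ((Subgroup.closure_le _).2 ?_)
  · have h1 : gv C.e1 ∈ Subgroup.closure {gv C.e1, gv C.e2} := Subgroup.subset_closure (Set.mem_insert _ _)
    have h2 : gv C.e2 ∈ Subgroup.closure {gv C.e1, gv C.e2} :=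
      Subgroup.subset_closure (Set.mem_insert_of_mem _ rfl)
    rcases (mem_EG C).1 hg with rfl | rfl | rfl | rfl
    exacts [one_mem _, h1, h2, mul_mem h1 h2]
  · rintro g (rfl | rfl)
    · exact Or.inr (Or.inl rfl)
    · exact Or.inr (Or.inr (Or.inl rfl))

theorem centralizer_EG : Subgroup.centralizer (EG C : Set G) = CE C := by
  rw [EG_eq, Subgroup.centralizer_closure]; rfl

theorem e12_val : gv C.e1 * gv C.e2 = C.val {C.b, C.c} := by
  classical
  obtain ⟨⟨hab, hac, -⟩, ⟨hbc, -⟩, -⟩ := pts_facts C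
  rw [C.he1, C.he2, ← C.pic.pts.mul]
  congr 1
  ext u
  simp only [Finset.mem_symmDiff, Finset.mem_insert, Finset.mem_singleton]
  constructor
  · tauto
  · rintro (rfl | rfl)
    exacts [Or.inl ⟨Or.inr rfl, by simp [Ne.symm hab, hbc]⟩,
      Or.inr ⟨Or.inr rfl, by simp [Ne.symm hac, Ne.symm hbc]⟩]

theorem nc_EG {g : G} (hg : g ∈ EG C) (h1 : g ≠ 1) : Nc z g := by
  obtain ⟨⟨hab, hac, -⟩, ⟨hbc, -⟩, -⟩ := pts_facts C
  rcases (mem_EG C).1 hg with rfl | rfl | rfl | rfl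
  · exact absurd rfl h1
  · rw [C.he1]; exact C.pic.nc_pair hab
  · rw [C.he2]; exact C.pic.nc_pair hac
  · rw [e12_val]; exact C.pic.nc_pair hbc

theorem z_not_EG : z ∉ EG C := fun h => (nc_EG C h m.ext.ne).2 (IsConj.refl z)

/-- A vector lying over the first one. -/
theorem rep_EG {g : G} (hg : g ∈ EG C) : ∃ q : Q, gv q = g ∧ ∃ a : K4, m.rep q = a • rep m.k 1 := by
  rcases (mem_EG C).1 hg with rfl | rfl | rfl | rfl
  · exact ⟨1, rfl, 0, by rw [m.rep_one, zero_smul]⟩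
  · exact ⟨C.e1, rfl, 1, by rw [C.rep1, one_smul]⟩
  · exact ⟨C.e2, rfl, ω, C.rep2⟩
  · exact ⟨C.e1 * C.e2, rfl, 1 + ω, by rw [m.rep_mul, C.rep1, C.rep2, add_smul, one_smul]⟩

theorem nc_z_EG {g : G} (hg : g ∈ EG C) (h1 : g ≠ 1) : Nc z (z * g) := by
  obtain ⟨q, hq, a, ha⟩ := rep_EG C hg
  obtain ⟨zq, hzq, -⟩ := LargeFischerLocal.exists_zQ m
  have ha0 : a ≠ 0 := by
    rintro rfl
    rw [zero_smul] at ha
    rcases (m.rep_zero q).1 ha with e | e
    · exact h1 (hq.symm.trans e)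
    · have e' : g = z := hq.symm.trans e
      exact z_not_EG C ((congrArg (fun x => x ∈ EG C) e').mp hg)
  have h := nc_of_lab_one m (x := zq * q) (by
    show labV m.k (m.rep _) = 1
    rw [m.rep_mul, LargeFischerAbelian.rep_z m zq hzq, zero_add, ha, lab_scalar m ha0]
    exact (rep_first m.k m.hk).1)
  have e : gv (zq * q) = z * g := by
    show gv zq * gv q = _
    rw [hzq, hq]
  exact (congrArg (Nc z) e).mp h

theorem card_EG : Nat.card (EG C) = 4 := by
  classical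
  obtain ⟨⟨hab, hac, -⟩, ⟨hbc, -⟩, -⟩ := pts_facts C
  have h1 : gv C.e1 ≠ 1 := by rw [C.he1]; exact (C.pic.nc_pair hab).1
  have h2 : gv C.e2 ≠ 1 := by rw [C.he2]; exact (C.pic.nc_pair hac).1
  have h3 : gv C.e1 * gv C.e2 ≠ 1 := by rw [e12_val]; exact (C.pic.nc_pair hbc).1
  have h12 : gv C.e1 ≠ gv C.e2 := fun e => h3 (by rw [e]; exact (e_sq C).2.1)
  rw [show Nat.card (EG C) = Nat.card ({1, gv C.e1, gv C.e2, gv C.e1 * gv C.e2} : Set G) from Nat.card_congr
    (Equiv.setCongr (Set.ext fun g => by simp [mem_EG])), Nat.card_coe_set_eq, Set.ncard_insert_of_notMem,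
    Set.ncard_insert_of_notMem, Set.ncard_pair]
  · intro e; exact h1 (left_eq_mul.1 (e.trans (e_sq C).2.2) )
  · rintro (e | e)
    · exact h12 e
    · exact h2 (left_eq_mul.1 e)
  · rintro (e | e | e)
    exacts [h1 e.symm, h2 e.symm, h3 e.symm]

/-- The four-group inside the centraliser. -/
abbrev E' : Subgroup ↥(CE C) := (EG C).subgroupOf (CE C)

instance : (E' C).Normal := ⟨fun a ha g => by
  have hc : ((g : ↥(CE C)) : G) ∈ Subgroup.centralizer (EG C : Set G) := by rw [centralizer_EG]; exact g.2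
  show (g : G) * (a : G) * (g : G)⁻¹ ∈ EG C
  rw [← Subgroup.mem_centralizer_iff.1 hc (a : G) ha, mul_inv_cancel_right]
  exact ha⟩

/-- The quotient. -/
abbrev YQ : Type _ := ↥(CE C) ⧸ E' C

/-- The image of the centre. -/
def zb : YQ C := QuotientGroup.mk ⟨z, z_mem_CE C⟩

theorem EG_le_KE {g : Subgroup.centralizer ({z} : Set G)} (hg : (g : G) ∈ EG C) : g ∈ KE C := by
  rw [mem_KE_CE]
  have : (g : G) ∈ C.A := by
    rcases (mem_EG C).1 hg with e | e | e | e <;> rw [e]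
    · exact one_mem _
    · rw [C.he1]; exact C.pic.pts.mem _
    · rw [C.he2]; exact C.pic.pts.mem _
    · rw [e12_val]; exact C.pic.pts.mem _
  exact A_le_CE C this

theorem mk_eq_iff {a b : ↥(CE C)} : (QuotientGroup.mk a : YQ C) = QuotientGroup.mk b ↔ (a : G)⁻¹ * (b : G) ∈ EG C :=
  QuotientGroup.eq

/-- An element of a coset of a conjugate of the centre is conjugate only if it is the conjugate. -/
theorem coset_unique {g e : G} (hg : g ∈ CE C) (he : e ∈ EG C) (h : IsConj z (g * z * g⁻¹ * e)) : e = 1 := by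
  by_contra h1
  refine (nc_z_EG C he h1).2 ?_
  have hc : g ∈ Subgroup.centralizer (EG C : Set G) := by rw [centralizer_EG]; exact hg
  have e' : g * z * g⁻¹ * e = g * (z * e) * g⁻¹ := by
    calc g * z * g⁻¹ * e = g * z * g⁻¹ * (e * g) * g⁻¹ := by group
      _ = g * z * g⁻¹ * (g * e) * g⁻¹ := by rw [Subgroup.mem_centralizer_iff.1 hc e he]
      _ = _ := by group
  rw [e'] at h
  exact LargeFischerCoset.isConj_conj.1 h

/-- The map of the centraliser onto that of the image. -/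
def phi : ↥(KE C) →* ↥(CC (zb C)) :=
  MonoidHom.mk' (fun g => ⟨QuotientGroup.mk ⟨((g : Subgroup.centralizer ({z} : Set G)) : G), (mem_KE_CE C).1 g.2⟩,
    Subgroup.mem_centralizer_singleton_iff.2 (congrArg QuotientGroup.mk (Subtype.ext
      (Subgroup.mem_centralizer_singleton_iff.1 (g : Subgroup.centralizer ({z} : Set G)).2)))⟩)
    fun _ _ => Subtype.ext rfl

theorem phi_surj : Function.Surjective (phi C) := by
  rintro ⟨y, hy⟩
  obtain ⟨g, rfl⟩ := QuotientGroup.mk_surjective y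
  have h : (g : G)⁻¹ * z * (g : G) * z⁻¹ ∈ EG C := by
    have h0 := Subgroup.mem_centralizer_singleton_iff.1 hy
    have h1 : (QuotientGroup.mk (g * ⟨z, z_mem_CE C⟩) : YQ C) = QuotientGroup.mk (⟨z, z_mem_CE C⟩ * g) := h0
    have := (mk_eq_iff C).1 h1
    simp only [Subgroup.coe_mul, _root_.mul_inv_rev] at this
    have hz : z⁻¹ = z := inv_eq_of_mul_eq_one_right m.ext.zz
    have hgc : z ∈ Subgroup.centralizer (EG C : Set G) := by rw [centralizer_EG]; exact z_mem_CE C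
    have hc := Subgroup.mem_centralizer_iff.1 hgc _ this
    have e : (g : G)⁻¹ * z * (g : G) * z⁻¹ = z * (z⁻¹ * (g : G)⁻¹ * (z * (g : G))) * z⁻¹ := by group
    rw [e, ← hc, mul_inv_cancel_right]
    exact this
  have hgK : (g : G) * z = z * (g : G) := by
    have he := coset_unique C (g := 1) (one_mem _) h (by
      rw [one_mul, inv_one, mul_one, show z * ((g : G)⁻¹ * z * (g : G) * z⁻¹) = z * ((g : G)⁻¹ * z * (g : G)) * z⁻¹
        by group, LargeFischerCoset.isConj_conj]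
      refine _root_.isConj_iff.2 ⟨(g : G)⁻¹, by group⟩)
    rw [mul_inv_eq_one, mul_assoc, inv_mul_eq_iff_eq_mul] at he
    exact he.symm
  exact ⟨⟨⟨(g : G), Subgroup.mem_centralizer_singleton_iff.2 hgK⟩, (mem_KE_CE C).2 g.2⟩, Subtype.ext rfl⟩

theorem phi_one_iff (g : ↥(KE C)) : phi C g = 1 ↔ ((g : Subgroup.centralizer ({z} : Set G)) : G) ∈ EG C := by
  rw [Subtype.ext_iff]
  show (QuotientGroup.mk _ : YQ C) = 1 ↔ _
  rw [QuotientGroup.eq_one_iff, Subgroup.mem_subgroupOf]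

variable (hF : IsOfLargeFischerTypeAt z Q)

theorem phi_ker_le : (phi C).ker ≤ (piE C hF).ker := fun g hg => by
  obtain ⟨q, hq, -⟩ := rep_EG C ((phi_one_iff C g).1 hg)
  refine MonoidHom.mem_ker.2 ((piE_eq_one C hF g).2 ?_)
  rw [← Subtype.ext (a1 := (q : Subgroup.centralizer ({z} : Set G))) hq]
  exact q.2

/-- The map onto `U₄(2)`. -/
noncomputable def piY : ↥(CC (zb C)) →* Q4 :=
  (phi C).liftOfSurjective (phi_surj C) ⟨piE C hF, phi_ker_le C hF⟩

theorem piY_phi (g : ↥(KE C)) : piY C hF (phi C g) = piE C hF g :=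
  MonoidHom.liftOfRightInverse_comp_apply _ _ _ _ g

theorem piY_surj : Function.Surjective (piY C hF) := fun e => by
  obtain ⟨g, rfl⟩ := piE_surj C hF e
  exact ⟨phi C g, piY_phi C hF g⟩

theorem card_piE_ker : Nat.card (piE C hF).ker = 2 ^ 11 := by
  set S : Subgroup Q := (KE C).subgroupOf Q with hS
  have h1 : Nat.card (piE C hF).ker = Nat.card S := Nat.card_congr
    { toFun := fun g => ⟨⟨g.1.1, (piE_eq_one C hF g.1).1 g.2⟩, g.1.2⟩
      invFun := fun q => ⟨⟨q.1.1, q.2⟩, (piE_eq_one C hF _).2 q.1.2⟩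
      left_inv := fun g => rfl
      right_inv := fun q => rfl }
  let f := LargeFischerAbelian.repHom m
  have hQ : Nat.card Q = 2 ^ 13 := by
    rw [← m.card_QG]
    exact (Subgroup.card_map_of_injective (Subgroup.subtype_injective _)).symm
  have hV : Nat.card (Multiplicative (Fin 6 → K4)) = 4096 := by
    rw [Nat.card_congr Multiplicative.toAdd, Nat.card_fun, Nat.card_fin, Nat.card_eq_fintype_card (α := K4), hK4]
    norm_num
  have hsurj : Function.Surjective f := fun v => by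
    obtain ⟨x, hx⟩ := m.rep_surj v.toAdd
    exact ⟨x, congrArg Multiplicative.ofAdd hx⟩
  have htop := Spor.Leech.card_eq_ker_mul_map f ⊤
  rw [Subgroup.card_top, top_inf_eq, hQ, Subgroup.map_top_of_surjective _ hsurj, Subgroup.card_top, hV] at htop
  have hmem : ∀ q : Q, q ∈ S ↔ Pp m.k (m.rep q) := fun q => q_mem_KE C q
  have hle : f.ker ≤ S := fun q hq => (hmem q).2 (by
    rw [show m.rep q = 0 from congrArg Multiplicative.toAdd (MonoidHom.mem_ker.1 hq)]
    simp [Pp, hermForm])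
  have hPr : ∀ p : K4 × V4, Pp m.k (p.1 • rep m.k 1 + up m.k p.2) := fun p =>
    pp_add (pp_smul _ (pp_self m.hk)) (pp_up m.hk _)
  have himg : Nat.card (S.map f) = 1024 := by
    rw [Nat.card_congr (Equiv.ofBijective (fun p : K4 × V4 => (⟨Multiplicative.ofAdd (p.1 • rep m.k 1 + up m.k p.2), by
      obtain ⟨x, hx⟩ := m.rep_surj (p.1 • rep m.k 1 + up m.k p.2)
      exact ⟨x, (hmem x).2 (hx ▸ hPr p), congrArg Multiplicative.ofAdd hx⟩⟩ : S.map f)) ⟨?_, ?_⟩).symm,
      Nat.card_prod, Nat.card_fun, Nat.card_fin, Nat.card_eq_fintype_card, hK4]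
    · norm_num
    · intro p p' e
      have e' : p.1 • rep m.k 1 + up m.k p.2 = p'.1 • rep m.k 1 + up m.k p'.2 :=
        Multiplicative.ofAdd.injective (congrArg Subtype.val e)
      have e2 := congrArg (gam m.k) e'
      rw [gam_add, gam_add, gam_v0 m.hk, gam_v0 m.hk, gam_up m.hk, gam_up m.hk, zero_add, zero_add] at e2
      rw [e2, add_left_inj] at e'
      exact Prod.ext (smul_left_injective K4 (b_facts m.hk).2.2.2 e') e2
    · rintro ⟨v, x, hx, rfl⟩
      obtain ⟨a, ha⟩ := decomp m.hk ((hmem x).1 hx)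
      exact ⟨(a, gam m.k (m.rep x)), Subtype.ext (congrArg Multiplicative.ofAdd ((add_comm _ _).trans ha.symm))⟩
  rw [h1, Spor.Leech.card_eq_ker_mul_map f S, inf_eq_right.2 hle, himg]
  omega

theorem card_piY_ker : Nat.card (piY C hF).ker = 512 := by
  have hmap : (piE C hF).ker.map (phi C) = (piY C hF).ker := by
    ext y
    constructor
    · rintro ⟨g, hg, rfl⟩
      exact MonoidHom.mem_ker.2 ((piY_phi C hF g).trans hg)
    · intro hy
      obtain ⟨g, rfl⟩ := phi_surj C y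
      exact ⟨g, MonoidHom.mem_ker.2 ((piY_phi C hF g).symm.trans hy), rfl⟩
  have h := Spor.Leech.card_eq_ker_mul_map (phi C) (piE C hF).ker
  rw [inf_eq_right.2 (phi_ker_le C hF), card_piE_ker, hmap] at h
  have hk : Nat.card (phi C).ker = 4 := by
    rw [← card_EG C]
    exact Nat.card_congr
      { toFun := fun g => ⟨_, (phi_one_iff C g.1).1 g.2⟩
        invFun := fun e => ⟨⟨⟨e.1, by
          obtain ⟨q, hq, -⟩ := rep_EG C e.2
          rw [← hq]; exact (q : Subgroup.centralizer ({z} : Set G)).2⟩, EG_le_KE C e.2⟩, (phi_one_iff C _).2 e.2⟩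
        left_inv := fun g => rfl
        right_inv := fun e => rfl }
  rw [hk] at h
  omega

theorem basis_iso : ∀ a b : K4, (a + b = 0 ∧ a + ω ^ 2 * b = 0) → a = 0 ∧ b = 0 := by decide +kernel

theorem perp_isotropic {t : V4} (h : ∀ x : V4, fH x x = 0 → fH t x = 0) : t = 0 := by
  have f1 := h ![1, 1, 0, 0] (by decide +kernel)
  have f2 := h ![1, ω, 0, 0] (by decide +kernel)
  have f3 := h ![0, 0, 1, 1] (by decide +kernel)
  have f4 := h ![0, 0, 1, ω] (by decide +kernel)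
  simp only [fH, hermForm, Fin.sum_univ_four, Matrix.cons_val_zero, Matrix.cons_val_one, Matrix.cons_val,
    one_pow, mul_one, ne_eq, OfNat.ofNat_ne_zero, not_false_eq_true, zero_pow, mul_zero, add_zero, zero_add]
    at f1 f2 f3 f4
  rw [mul_comm (t 1)] at f2
  rw [mul_comm (t 3)] at f4
  obtain ⟨a0, a1⟩ := basis_iso _ _ ⟨f1, f2⟩
  obtain ⟨a2, a3⟩ := basis_iso _ _ ⟨f3, f4⟩
  funext i
  fin_cases i <;> assumption

theorem piY_centre (g : ↥(CC (zb C))) (hg : g ∈ (piY C hF).ker)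
    (hc : ∀ h ∈ (piY C hF).ker, Commute g h) : (g : YQ C) = 1 ∨ (g : YQ C) = zb C := by
  obtain ⟨g, rfl⟩ := phi_surj C g
  have hgQ : g.1 ∈ Q := (piE_eq_one C hF g).1 ((piY_phi C hF g).symm.trans hg)
  set q : Q := ⟨g.1, hgQ⟩ with hq
  have hp : Pp m.k (m.rep q) := (q_mem_KE C q).1 g.2
  have hcomm : ∀ x : Q, Pp m.k (m.rep x) → q * x = x * q := by
    intro x hx
    let X : ↥(KE C) := ⟨x, (q_mem_KE C x).2 hx⟩
    have hX : phi C X ∈ (piY C hF).ker :=
      MonoidHom.mem_ker.2 ((piY_phi C hF X).trans ((piE_eq_one C hF X).2 x.2))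
    have h0 : phi C (g * X * g⁻¹ * X⁻¹) = 1 := by
      rw [map_mul, map_mul, map_mul, map_inv, map_inv, (hc _ hX).eq, mul_inv_cancel_right, mul_inv_cancel]
    have hE : gv q * gv x * (gv q)⁻¹ * (gv x)⁻¹ ∈ EG C := (phi_one_iff C _).1 h0
    rcases m.ext.conj_cases (mem_QG.2 ⟨x, rfl⟩) (mem_QG.2 ⟨q, rfl⟩) with e | ⟨-, e⟩
    · exact Subtype.ext (Subtype.ext e)
    · exfalso
      refine z_not_EG C ((congrArg (fun a => a ∈ EG C) ?_).mp hE)
      show gv q * gv x * (gv q)⁻¹ * (gv x)⁻¹ = z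
      rw [e]
      exact mul_inv_eq_iff_eq_mul.2 (m.ext.central _ (mem_QG.2 ⟨x, rfl⟩))
  have h0 : gq m q = 0 := perp_isotropic fun v hv => by
    refine trace_all fun b => ?_
    have hb : ∀ b : K4, (b ^ 2) ^ 2 = b := by decide +kernel
    obtain ⟨x, hx⟩ := m.rep_surj (up m.k (b ^ 2 • v))
    have hpx : Pp m.k (m.rep x) := hx ▸ pp_up m.hk _
    have hgx : gam m.k (m.rep x) = b ^ 2 • v := by rw [hx, gam_up m.hk]
    have hiso : hermForm 6 K4 2 (m.rep x) (m.rep x) = 0 := by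
      rw [herm_gam m.hk hpx hpx, hgx, fH_smul_left, fH_smul_right, hv, mul_zero, mul_zero]
    have h := (comm_iff m q x hiso).1 (hcomm x hpx)
    rwa [herm_gam m.hk hp hpx, hgx, fH_smul_right, hb] at h
  obtain ⟨a, ha⟩ := (b_facts m.hk).2.1 _ hp h0
  have key : ∀ e : Q, gv e ∈ EG C → m.rep e = m.rep q → (phi C g : YQ C) = 1 ∨ (phi C g : YQ C) = zb C := by
    intro e he hr
    rcases m.rep_eq hr with e' | e'
    · exact Or.inl (congrArg Subtype.val ((phi_one_iff C g).2 (show gv q ∈ EG C from e' ▸ he)))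
    · refine Or.inr ((mk_eq_iff C).2 ?_)
      show (gv q)⁻¹ * z ∈ EG C
      have hzz : z⁻¹ * (gv e)⁻¹ * z = (gv e)⁻¹ := by
        rw [mul_assoc, m.ext.central _ (inv_mem (mem_QG.2 ⟨e, rfl⟩) : (gv e)⁻¹ ∈ QG Q), inv_mul_cancel_left]
      rw [e', _root_.mul_inv_rev, hzz]
      exact inv_mem he
  rcases k4_cases a with rfl | rfl | rfl | rfl
  · exact key 1 (one_mem _) (by rw [m.rep_one, ha, zero_smul])
  · exact key C.e1 ((mem_EG C).2 (Or.inr (Or.inl rfl))) (by rw [C.rep1, ha, one_smul])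
  · exact key C.e2 ((mem_EG C).2 (Or.inr (Or.inr (Or.inl rfl)))) (by rw [C.rep2, ha])
  · refine key (C.e1 * C.e2) ((mem_EG C).2 (Or.inr (Or.inr (Or.inr rfl)))) ?_
    rw [m.rep_mul, C.rep1, C.rep2, ha]
    nth_rw 1 [← one_smul K4 (rep m.k 1)]
    rw [← add_smul, show (1 : K4) + ω = ω * ω by decide +kernel]

/-- Members in the quotient. -/
theorem exists_member (u : ↥(CC (zb C))) (h : IsConj (zb C) (u : YQ C)) (hne : (u : YQ C) ≠ zb C) :
    ∃ (v : Subgroup.centralizer ({z} : Set G)) (hv : Mem C v), phi C ⟨v, hv.ke⟩ = u := by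
  obtain ⟨h0, rfl⟩ := phi_surj C u
  obtain ⟨y, hy⟩ := _root_.isConj_iff.1 h
  obtain ⟨g, rfl⟩ := QuotientGroup.mk_surjective y
  have hE : ((g : G) * z * (g : G)⁻¹)⁻¹ * (h0.1 : G) ∈ EG C := (mk_eq_iff C).1 hy
  obtain ⟨q, hq, -⟩ := rep_EG C hE
  have hw : (g : G) * z * (g : G)⁻¹ = (h0.1 : G) * (gv q)⁻¹ := by rw [hq]; group
  let v : Subgroup.centralizer ({z} : Set G) := h0.1 * (q : Subgroup.centralizer ({z} : Set G))⁻¹
  have hv : (v : G) = (g : G) * z * (g : G)⁻¹ := hw.symm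
  have hmem : (v : G)⁻¹ * (h0.1 : G) ∈ EG C := by rw [hv]; exact hE
  have hm : Mem C v := by
    refine ⟨fun e => hne ?_, g, g.2, hv.symm⟩
    refine (mk_eq_iff C).2 ?_
    show (h0.1 : G)⁻¹ * z ∈ EG C
    rw [e] at hmem
    have := inv_mem hmem
    rwa [_root_.mul_inv_rev, inv_inv] at this
  exact ⟨v, hm, Subtype.ext ((mk_eq_iff C).2 hmem)⟩

theorem phi_mem_isConj {v : Subgroup.centralizer ({z} : Set G)} (hv : Mem C v) :
    IsConj (zb C) (phi C ⟨v, hv.ke⟩ : YQ C) := by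
  obtain ⟨-, g, hg, e⟩ := id hv
  refine _root_.isConj_iff.2 ⟨QuotientGroup.mk ⟨g, hg⟩, ?_⟩
  exact congrArg QuotientGroup.mk (Subtype.ext e :
    (⟨g, hg⟩ * ⟨z, z_mem_CE C⟩ * (⟨g, hg⟩ : ↥(CE C))⁻¹ : ↥(CE C)) = ⟨(v : G), (mem_KE_CE C).1 hv.ke⟩)

theorem phi_mem_inj {v v' : Subgroup.centralizer ({z} : Set G)} (hv : Mem C v) (hv' : Mem C v')
    (e : phi C ⟨v, hv.ke⟩ = phi C ⟨v', hv'.ke⟩) : v = v' := by
  have h : (v : G)⁻¹ * (v' : G) ∈ EG C := (mk_eq_iff C).1 (congrArg Subtype.val e)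
  obtain ⟨-, g, hg, ev⟩ := id hv
  have h1 := coset_unique C hg h (by rw [ev, mul_inv_cancel_left]; exact hv'.isConj)
  exact Subtype.ext (inv_mul_eq_one.1 h1)

include C hF in
theorem zero_not_root : (1 : Q4) ∉ roots hK4 4 := fun h => by
  have hcard := fibre_card C hF h
  obtain ⟨u, hu, h1⟩ : {u : Subgroup.centralizer ({z} : Set G) | Mem C u ∧ Pi C hF u = 1}.Nonempty :=
    Set.nonempty_of_ncard_ne_zero (by rw [hcard]; norm_num)
  obtain ⟨r, hr, hr0, hR⟩ := centre C hF hu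
  obtain ⟨g, hg, hA⟩ := exists_into C hF hu
  exact not_Q C hF (u := g * u * g⁻¹) ⟨hA, hu.conj C hg⟩
    (hQn.conj_mem _ ((Pi_one_iff C hF hu.ke).1 h1) g)

theorem two_zb : orderOf (zb C) = 2 := by
  refine orderOf_eq_prime ?_ ?_
  · rw [pow_two, zb, ← QuotientGroup.mk_mul, QuotientGroup.eq_one_iff, Subgroup.mem_subgroupOf, Subgroup.coe_mul,
      show z * z = 1 from m.ext.zz]
    exact one_mem _
  · rw [zb, ne_eq, QuotientGroup.eq_one_iff, Subgroup.mem_subgroupOf]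
    exact z_not_EG C

/-- The recognition hypotheses. -/
noncomputable def setting : Setting (zb C) where
  π := piY C hF
  two := two_zb C
  surj := piY_surj C hF
  card_ker := card_piY_ker C hF
  ker_centre := piY_centre C hF
  mem u h hne := by
    obtain ⟨v, hv, rfl⟩ := exists_member C u h hne
    rw [piY_phi]
    exact (Pi_piE C hF ⟨v, hv.ke⟩) ▸ pi_mem C hF hv
  fibre e he := by
    refine Eq.trans ?_ (fibre_card C hF he)
    symm
    refine Set.ncard_congr (fun v hv => phi C ⟨v, hv.1.ke⟩) ?_ ?_ ?_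
    · rintro v ⟨hv, rfl⟩
      exact ⟨phi_mem_isConj C hv, (piY_phi C hF _).trans (Pi_piE C hF ⟨v, hv.ke⟩).symm⟩
    · intro v v' hv hv' heq
      exact phi_mem_inj C hv.1 hv'.1 heq
    · rintro u ⟨hu, hpu⟩
      have hne : (u : YQ C) ≠ zb C := by
        intro e'
        refine zero_not_root C hF ?_
        obtain ⟨g0, rfl⟩ := phi_surj C u
        rw [piY_phi] at hpu
        suffices piE C hF g0 = 1 by rw [← this, hpu]; exact he
        refine (piE_eq_one C hF g0).2 ?_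
        have hz : (g0.1 : G)⁻¹ * z ∈ EG C := (mk_eq_iff C).1 e'
        obtain ⟨q, hq, -⟩ := rep_EG C hz
        obtain ⟨zq, hzq, -⟩ := LargeFischerLocal.exists_zQ m
        rw [show g0.1 = ((zq * q⁻¹ : Q) : Subgroup.centralizer ({z} : Set G)) from Subtype.ext (by
          show (g0.1 : G) = gv zq * (gv q)⁻¹
          rw [hzq, hq, _root_.mul_inv_rev, inv_inv, mul_inv_cancel_left])]
        exact (zq * q⁻¹ : Q).2
      obtain ⟨v, hv, rfl⟩ := exists_member C u hu hne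
      exact ⟨v, ⟨hv, ((Pi_piE C hF ⟨v, hv.ke⟩).trans (piY_phi C hF _).symm).trans hpu⟩, rfl⟩
  comm u v hu hv hnu hnv h := by
    obtain ⟨a, ha, rfl⟩ := exists_member C u hu hnu
    obtain ⟨b, hb, rfl⟩ := exists_member C v hv hnv
    rw [piY_phi, piY_phi, ← Pi_piE, ← Pi_piE] at h
    exact (show Commute (⟨a, ha.ke⟩ : ↥(KE C)) ⟨b, hb.ke⟩ from Subtype.ext (comm_members C hF ha hb h)).map (phi C)

end Cfsg.Agent.Fus.U62Four
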