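/-
The centraliser of the four-group is quasisimple over `U₆(2)`, and so is that of any triangle of pairs.
-/
import Cfsg.Agent.Lib.Fus.U62Four.Quot
import Cfsg.Agent.Lib.Fus.U62Rec.Global
import Cfsg.Agent.S0283
import Cfsg.Agent.Lib.Grp.Quasisimple

set_option autoImplicit false
set_option maxRecDepth 100000
set_option linter.unusedSectionVars false
set_option linter.style.haveILetI false

open Cfsg Cfsg.Agent.Classical Cfsg.Agent.Spor.LargeFischer
open Cfsg.Agent.Spor.USixTwo (K4)
open Cfsg.Agent.Fus.LargeFischerPoints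
open scoped commutatorElement

namespace Cfsg.Agent.Fus.U62Four

variable {G : Type*} [Group G]

/-- A subgroup whose centraliser is quasisimple and is `U₆(2)` modulo it. -/
def Good (E : Subgroup G) : Prop :=
  Cfsg.IsQuasisimple ↥(Subgroup.centralizer (E : Set G)) ∧
    ∃ (_ : (E.subgroupOf (Subgroup.centralizer (E : Set G))).Normal) (K : Type) (_ : Field K) (_ : Fintype K),
      Fintype.card K = 4 ∧
      Nonempty (↥(Subgroup.centralizer (E : Set G)) ⧸ E.subgroupOf (Subgroup.centralizer (E : Set G)) ≃* Cfsg.PSU 6 K 2)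

theorem centralizer_map (f : G ≃* G) (E : Subgroup G) :
    Subgroup.centralizer ((E.map f.toMonoidHom : Subgroup G) : Set G) =
      (Subgroup.centralizer (E : Set G)).map f.toMonoidHom := by
  ext x
  rw [Subgroup.mem_centralizer_iff]
  constructor
  · intro h
    refine ⟨f.symm x, Subgroup.mem_centralizer_iff.2 fun e he => f.injective ?_, f.apply_symm_apply x⟩
    rw [map_mul, map_mul, f.apply_symm_apply]
    exact h (f e) ⟨e, he, rfl⟩
  · rintro ⟨y, hy, rfl⟩ _ ⟨e, he, rfl⟩
    show f e * f y = f y * f e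
    rw [← map_mul, ← map_mul, Subgroup.mem_centralizer_iff.1 hy e he]

theorem Good.map (f : G ≃* G) {E : Subgroup G} (h : Good E) : Good (E.map f.toMonoidHom) := by
  obtain ⟨hq, hn, K, iF, iT, hK, ⟨e⟩⟩ := h
  let σ : ↥(Subgroup.centralizer (E : Set G)) ≃* ↥(Subgroup.centralizer ((E.map f.toMonoidHom : Subgroup G) : Set G)) :=
    (f.subgroupMap _).trans (MulEquiv.subgroupCongr (centralizer_map f E).symm)
  have hσ : (E.subgroupOf _).map σ.toMonoidHom =
      (E.map f.toMonoidHom).subgroupOf (Subgroup.centralizer ((E.map f.toMonoidHom : Subgroup G) : Set G)) := by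
    ext x
    constructor
    · rintro ⟨y, hy, rfl⟩
      exact ⟨(y : G), hy, rfl⟩
    · rintro ⟨y, hy, e'⟩
      refine ⟨σ.symm x, ?_, σ.apply_symm_apply x⟩
      have h1 : f ((σ.symm x : ↥(Subgroup.centralizer (E : Set G))) : G) = (x : G) := congrArg Subtype.val (σ.apply_symm_apply x)
      rw [SetLike.mem_coe, Subgroup.mem_subgroupOf]
      rwa [f.injective (h1.trans e'.symm)]
  have hN : ((E.map f.toMonoidHom).subgroupOf
      (Subgroup.centralizer ((E.map f.toMonoidHom : Subgroup G) : Set G))).Normal := by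
    rw [← hσ]
    exact hn.map σ.toMonoidHom σ.surjective
  exact ⟨(Cfsg.Agent.Grp.isQuasisimple_congr σ).1 hq, hN, K, iF, iT, hK,
    ⟨(QuotientGroup.congr _ _ σ hσ).symm.trans e⟩⟩

variable [Finite G] {z : G} {Q : Subgroup (Subgroup.centralizer ({z} : Set G))}
  [hQn : Q.Normal] {m : Model z Q} (C : Ctx m) (hF : IsOfLargeFischerTypeAt z Q)

theorem EG_derived : EG C ≤ ⁅CE C, CE C⁆ := by
  obtain ⟨⟨hab, hac, -⟩, ⟨hbc, -⟩, -⟩ := pts_facts C
  obtain ⟨h1, h2⟩ := C.pic.derived hab hac hbc (CE C) fun g => by rw [mem_CE, C.he1, C.he2]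
  rw [← C.he1] at h1
  rw [← C.he2] at h2
  rw [EG_eq, Subgroup.closure_le]
  rintro g (rfl | rfl)
  exacts [h1, h2]

theorem le_center : E' C ≤ Subgroup.center ↥(CE C) := fun a ha => Subgroup.mem_center_iff.2 fun g => by
  have hc : (g : G) ∈ Subgroup.centralizer (EG C : Set G) := by rw [centralizer_EG]; exact g.2
  exact Subtype.ext (Subgroup.mem_centralizer_iff.1 hc (a : G) ha).symm

include hF in
theorem quot_nonabelian : ¬ ∀ a b : YQ C, a * b = b * a := fun h => by
  have hsub : ((piY C hF).ker : Set ↥(Fus.U62Rec.CC (zb C))) ⊆ {1, ⟨zb C, Subgroup.mem_centralizer_singleton_iff.2 rfl⟩} :=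
    fun g hg => by
      rcases piY_centre C hF g hg fun k _ => Subtype.ext (h _ _) with e | e
      · exact Or.inl (Subtype.ext e)
      · exact Or.inr (Subtype.ext e)
  have hle := Set.ncard_le_ncard hsub
  rw [← Nat.card_coe_set_eq, show Nat.card ((piY C hF).ker : Set ↥(Fus.U62Rec.CC (zb C))) = 512 from
    card_piY_ker C hF] at hle
  have := hle.trans (Set.ncard_insert_le _ _)
  rw [Set.ncard_singleton] at this
  omega

include hF in
theorem good : Good (EG C) := by
  obtain ⟨e⟩ := Fus.U62Rec.nonempty_psu (setting C hF) K4 hK4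
  haveI : IsSimpleGroup (PSU 6 K4 2) := Cfsg.Agent.S0283.result (hK4.trans (by norm_num)) 6 (by norm_num) (by norm_num)
  haveI : Nontrivial (YQ C) := e.toEquiv.nontrivial
  haveI : IsSimpleGroup (YQ C) := IsSimpleGroup.isSimpleGroup_of_surjective e.symm.toMonoidHom e.symm.surjective
  have hcomm : commutator (YQ C) = ⊤ := by
    rcases (inferInstance : (commutator (YQ C)).Normal).eq_bot_or_eq_top with k | k
    · exfalso
      refine quot_nonabelian C hF fun a b => ?_
      have : ⁅a, b⁆ ∈ commutator (YQ C) := Subgroup.commutator_mem_commutator (Subgroup.mem_top a) (Subgroup.mem_top b)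
      rw [k, Subgroup.mem_bot] at this
      exact commutatorElement_eq_one_iff_mul_comm.1 this
    · exact k
  have hEder : E' C ≤ commutator ↥(CE C) := fun a ha => by
    have := EG_derived C (ha : (a : G) ∈ EG C)
    rw [← Subgroup.map_subtype_commutator] at this
    obtain ⟨b, hb, eb⟩ := this
    rwa [Subtype.ext eb] at hb
  have hperf : commutator ↥(CE C) = ⊤ := by
    have h1 : (commutator ↥(CE C)).map (QuotientGroup.mk' (E' C)) = ⊤ := by
      rw [commutator_def, Subgroup.map_commutator, Subgroup.map_top_of_surjective _ (QuotientGroup.mk'_surjective _)]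
      exact hcomm
    have h2 := congrArg (Subgroup.comap (QuotientGroup.mk' (E' C))) h1
    rwa [Subgroup.comap_map_eq, QuotientGroup.ker_mk', sup_eq_left.2 hEder, Subgroup.comap_top] at h2
  haveI : Group.IsPerfect ↥(CE C) := ⟨hperf⟩
  haveI : Nontrivial ↥(CE C) := (QuotientGroup.mk'_surjective (E' C)).nontrivial
  have hqs : Cfsg.IsQuasisimple ↥(CE C) := Cfsg.Agent.Grp.isQuasisimple_of inferInstance fun N hN => by
    rcases (hN.map _ (QuotientGroup.mk'_surjective (E' C))).eq_bot_or_eq_top with k | k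
    · right
      rw [Subgroup.map_eq_bot_iff, QuotientGroup.ker_mk'] at k
      exact k.trans (le_center C)
    · left
      have h2 := congrArg (Subgroup.comap (QuotientGroup.mk' (E' C))) k
      rw [Subgroup.comap_map_eq, QuotientGroup.ker_mk', Subgroup.comap_top] at h2
      rw [eq_top_iff, ← hperf, commutator_def, Subgroup.commutator_le]
      intro x _ y _
      obtain ⟨a, ha, b, hb, rfl⟩ := Subgroup.mem_sup_of_normal_right.mp (show x ∈ N ⊔ E' C by rw [h2]; trivial)
      have hbc := Subgroup.mem_center_iff.1 (le_center C hb)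
      have e1 : ⁅a * b, y⁆ = ⁅a, y⁆ := by
        rw [commutatorElement_mul_left_eq_conj_mul, commutatorElement_eq_one_iff_mul_comm.mpr (hbc y).symm]
        simp
      rw [e1, commutatorElement_def, mul_assoc a, mul_assoc a]
      exact N.mul_mem ha (hN.conj_mem _ (N.inv_mem ha) y)
  have key : ∀ X : Subgroup G, X = CE C → Cfsg.IsQuasisimple ↥X ∧
      ∃ (_ : ((EG C).subgroupOf X).Normal) (K : Type) (_ : Field K) (_ : Fintype K),
        Fintype.card K = 4 ∧ Nonempty (↥X ⧸ (EG C).subgroupOf X ≃* Cfsg.PSU 6 K 2) := by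
    rintro X rfl
    exact ⟨hqs, inferInstance, K4, inferInstance, inferInstance, hK4, ⟨e⟩⟩
  exact key _ (centralizer_EG C)

theorem nc_conj {g : G} {x : G} (h : Nc z x) : Nc z (g * x * g⁻¹) := by
  refine ⟨fun e => h.1 (conj_eq_one_iff.1 e), fun e => h.2 (e.trans (_root_.isConj_iff.2 ⟨g⁻¹, by group⟩))⟩

omit hQn in
/-- The centraliser of a triangle of pairs. -/
theorem triangle (z : G) (Q : Subgroup (Subgroup.centralizer ({z} : Set G))) [Q.Normal]
    (hF : IsOfLargeFischerTypeAt z Q) (T : Sylow 2 G) (A : Subgroup G)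
    (hA : A = thompsonSubgroupOf 2 (T : Subgroup G)) {a b : G} (ha : a ∈ A) (hb : b ∈ A)
    (na : a ≠ 1 ∧ ¬ IsConj z a) (nb : b ≠ 1 ∧ ¬ IsConj z b) (nab : a * b ≠ 1 ∧ ¬ IsConj z (a * b)) :
    Cfsg.IsQuasisimple ↥(Subgroup.centralizer ((Subgroup.closure {a, b} : Subgroup G) : Set G)) ∧
    ∃ (_ : ((Subgroup.closure {a, b}).subgroupOf
        (Subgroup.centralizer ((Subgroup.closure {a, b} : Subgroup G) : Set G))).Normal) (K : Type) (_ : Field K)
      (_ : Fintype K), Fintype.card K = 4 ∧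
      Nonempty (↥(Subgroup.centralizer ((Subgroup.closure {a, b} : Subgroup G) : Set G)) ⧸
        (Subgroup.closure {a, b}).subgroupOf
          (Subgroup.centralizer ((Subgroup.closure {a, b} : Subgroup G) : Set G)) ≃* Cfsg.PSU 6 K 2) := by
  classical
  obtain ⟨m⟩ := exists_model hF
  obtain ⟨C⟩ := exists_ctx m hF
  obtain ⟨g, hg⟩ := LargeFischerLocal.thompson_conj m hF T
  obtain ⟨h, hC⟩ := C.conjA
  set c := g * h⁻¹ with hc
  have hmem : ∀ x ∈ A, c⁻¹ * x * c ∈ C.A := by
    intro x hx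
    rw [hA, hg] at hx
    obtain ⟨y, hy, rfl⟩ := hx
    rw [hC]
    refine ⟨y, hy, ?_⟩
    simp only [MulEquiv.toMonoidHom_eq_coe, MonoidHom.coe_coe, MulAut.conj_apply, hc]
    group
  have hback : ∀ x, c * (c⁻¹ * x * c) * c⁻¹ = x := fun x => by group
  have hnc : ∀ x, Nc z x → Nc z (c⁻¹ * x * c) := fun x hx => by simpa using nc_conj (g := c⁻¹) hx
  have a1 := hmem a ha
  have b1 := hmem b hb
  obtain ⟨s, hs, es⟩ := (C.pic.pairs _).2 ⟨a1, hnc a na⟩
  obtain ⟨t, ht, et⟩ := (C.pic.pairs _).2 ⟨b1, hnc b nb⟩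
  have hi := (C.pic.pts.val_pair_mem hs ht).1 ((C.pic.pairs _).2 ⟨mul_mem (C.pic.pts.mem _) (C.pic.pts.mem _), by
    rw [es, et, show c⁻¹ * a * c * (c⁻¹ * b * c) = c⁻¹ * (a * b) * c by group]
    exact hnc _ nab⟩)
  obtain ⟨p, hp⟩ := Finset.card_eq_one.1 hi
  obtain ⟨hps, hpt⟩ := Finset.mem_inter.1 (hp.symm ▸ Finset.mem_singleton_self p)
  obtain ⟨q, hqs, hqp⟩ := Finset.exists_mem_ne (by rw [hs]; norm_num) p
  obtain ⟨r, hrt, hrp⟩ := Finset.exists_mem_ne (by rw [ht]; norm_num) p
  have eqs := pair_eq (Ne.symm hqp) hs hps hqs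
  have eqt := pair_eq (Ne.symm hrp) ht hpt hrt
  have hqr : q ≠ r := fun e => hqp (Finset.mem_singleton.1 (hp ▸ Finset.mem_inter.2 ⟨hqs, e ▸ hrt⟩))
  subst eqs eqt
  obtain ⟨⟨hab, hac, -⟩, ⟨hbc, -⟩, -⟩ := pts_facts C
  obtain ⟨σ, hσ, hmap⟩ := exists_map (n := 3) (by norm_num) (x := ![C.a, C.b, C.c]) (y := ![p, q, r])
    (inj_of_nodup (by simp [List.ofFn_succ, hab, hac, hbc]))
    (inj_of_nodup (by simp [List.ofFn_succ, Ne.symm hqp, Ne.symm hrp, hqr]))
  obtain ⟨n, -, hact⟩ := C.pic.lift σ hσ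
  have e1 : n * gv C.e1 * n⁻¹ = c⁻¹ * a * c := by
    rw [C.he1, hact _ (by rw [Finset.card_pair hab]; exact even_two), Finset.smul_finset_insert,
      Finset.smul_finset_singleton, Equiv.Perm.smul_def, Equiv.Perm.smul_def,
      show σ C.a = p from hmap 0, show σ C.b = q from hmap 1, es]
  have e2 : n * gv C.e2 * n⁻¹ = c⁻¹ * b * c := by
    rw [C.he2, hact _ (by rw [Finset.card_pair hac]; exact even_two), Finset.smul_finset_insert,
      Finset.smul_finset_singleton, Equiv.Perm.smul_def, Equiv.Perm.smul_def,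
      show σ C.a = p from hmap 0, show σ C.c = r from hmap 2, et]
  have key := (good C hF).map (MulAut.conj (c * n))
  have hE : (EG C).map (MulAut.conj (c * n)).toMonoidHom = Subgroup.closure {a, b} := by
    rw [EG_eq, MonoidHom.map_closure, Set.image_pair]
    congr 2
    · show c * n * gv C.e1 * (c * n)⁻¹ = a
      rw [← hback a, ← e1]; group
    · congr 1
      show c * n * gv C.e2 * (c * n)⁻¹ = b
      rw [← hback b, ← e2]; group
  rw [hE] at key
  exact key

end Cfsg.Agent.Fus.U62Four
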